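import Cfsg.Agent.Lib.Grp.Co2.Defs

set_option autoImplicit false
set_option maxRecDepth 100000
set_option Elab.async false

namespace Cfsg.Agent.CG.Co2

theorem c0 : allRange (chkBase 2300 16 (appT tabs t98 0xffff) 0 (inv 0)) 0 2300 = true := by decide +kernel
theorem c1 : allRange (chkBase 2300 16 (appT tabs t98 0xffff) 1 (inv 1)) 0 2300 = true := by decide +kernel
theorem c2 : allRange (chkBase 2300 16 (appT tabs t98 0xffff) 2 (inv 2)) 0 2300 = true := by decide +kernel
theorem c3 : chkDef 16 (appT tabs t98 0xffff) 3 (slp 3) 0 2300 = true := by decide +kernel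
theorem c4 : chkDef 16 (appT tabs t98 0xffff) 4 (slp 4) 0 2300 = true := by decide +kernel
theorem c5 : chkDef 16 (appT tabs t98 0xffff) 5 (slp 5) 0 2300 = true := by decide +kernel
theorem c6 : chkDef 16 (appT tabs t98 0xffff) 6 (slp 6) 0 2300 = true := by decide +kernel
theorem c7 : chkDef 16 (appT tabs t98 0xffff) 7 (slp 7) 0 2300 = true := by decide +kernel
theorem c8 : chkDef 16 (appT tabs t98 0xffff) 8 (slp 8) 0 2300 = true := by decide +kernel
theorem c9 : chkDef 16 (appT tabs t98 0xffff) 9 (slp 9) 0 2300 = true := by decide +kernel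
theorem c10 : chkDef 16 (appT tabs t98 0xffff) 10 (slp 10) 0 2300 = true := by decide +kernel
theorem c11 : chkDef 16 (appT tabs t98 0xffff) 11 (slp 11) 0 2300 = true := by decide +kernel
theorem c12 : chkDef 16 (appT tabs t98 0xffff) 12 (slp 12) 0 2300 = true := by decide +kernel
theorem c13 : chkDef 16 (appT tabs t98 0xffff) 13 (slp 13) 0 2300 = true := by decide +kernel
theorem c14 : chkDef 16 (appT tabs t98 0xffff) 14 (slp 14) 0 2300 = true := by decide +kernel
theorem c15 : chkDef 16 (appT tabs t98 0xffff) 15 (slp 15) 0 2300 = true := by decide +kernel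
theorem c16 : chkDef 16 (appT tabs t98 0xffff) 16 (slp 16) 0 2300 = true := by decide +kernel
theorem c17 : chkDef 16 (appT tabs t98 0xffff) 17 (slp 17) 0 2300 = true := by decide +kernel
theorem c18 : chkDef 16 (appT tabs t98 0xffff) 18 (slp 18) 0 2300 = true := by decide +kernel
theorem c19 : chkDef 16 (appT tabs t98 0xffff) 19 (slp 19) 0 2300 = true := by decide +kernel
theorem c20 : chkDef 16 (appT tabs t98 0xffff) 20 (slp 20) 0 2300 = true := by decide +kernel
theorem c21 : chkDef 16 (appT tabs t98 0xffff) 21 (slp 21) 0 2300 = true := by decide +kernel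
theorem c22 : chkDef 16 (appT tabs t98 0xffff) 22 (slp 22) 0 2300 = true := by decide +kernel
theorem c23 : chkDef 16 (appT tabs t98 0xffff) 23 (slp 23) 0 2300 = true := by decide +kernel
theorem c24 : chkDef 16 (appT tabs t98 0xffff) 24 (slp 24) 0 2300 = true := by decide +kernel
theorem c25 : chkDef 16 (appT tabs t98 0xffff) 25 (slp 25) 0 2300 = true := by decide +kernel
theorem c26 : chkDef 16 (appT tabs t98 0xffff) 26 (slp 26) 0 2300 = true := by decide +kernel
theorem c27 : chkDef 16 (appT tabs t98 0xffff) 27 (slp 27) 0 2300 = true := by decide +kernel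
theorem c28 : chkDef 16 (appT tabs t98 0xffff) 28 (slp 28) 0 2300 = true := by decide +kernel
theorem c29 : chkDef 16 (appT tabs t98 0xffff) 29 (slp 29) 0 2300 = true := by decide +kernel
theorem c30 : chkDef 16 (appT tabs t98 0xffff) 30 (slp 30) 0 2300 = true := by decide +kernel
theorem c31 : chkDef 16 (appT tabs t98 0xffff) 31 (slp 31) 0 2300 = true := by decide +kernel
theorem c32 : chkDef 16 (appT tabs t98 0xffff) 32 (slp 32) 0 2300 = true := by decide +kernel
theorem c33 : chkDef 16 (appT tabs t98 0xffff) 33 (slp 33) 0 2300 = true := by decide +kernel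
theorem c34 : chkDef 16 (appT tabs t98 0xffff) 34 (slp 34) 0 2300 = true := by decide +kernel
theorem c35 : chkDef 16 (appT tabs t98 0xffff) 35 (slp 35) 0 2300 = true := by decide +kernel
theorem c36 : chkDef 16 (appT tabs t98 0xffff) 36 (slp 36) 0 2300 = true := by decide +kernel
theorem c37 : chkDef 16 (appT tabs t98 0xffff) 37 (slp 37) 0 2300 = true := by decide +kernel
theorem c38 : chkDef 16 (appT tabs t98 0xffff) 38 (slp 38) 0 2300 = true := by decide +kernel
theorem c39 : chkDef 16 (appT tabs t98 0xffff) 39 (slp 39) 0 2300 = true := by decide +kernel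
theorem c40 : chkDef 16 (appT tabs t98 0xffff) 40 (slp 40) 0 2300 = true := by decide +kernel
theorem c41 : chkDef 16 (appT tabs t98 0xffff) 41 (slp 41) 0 2300 = true := by decide +kernel
theorem c42 : chkDef 16 (appT tabs t98 0xffff) 42 (slp 42) 0 2300 = true := by decide +kernel
theorem c43 : chkDef 16 (appT tabs t98 0xffff) 43 (slp 43) 0 2300 = true := by decide +kernel
theorem c44 : chkDef 16 (appT tabs t98 0xffff) 44 (slp 44) 0 2300 = true := by decide +kernel
theorem c45 : chkDef 16 (appT tabs t98 0xffff) 45 (slp 45) 0 2300 = true := by decide +kernel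
theorem c46 : chkDef 16 (appT tabs t98 0xffff) 46 (slp 46) 0 2300 = true := by decide +kernel
theorem c47 : chkDef 16 (appT tabs t98 0xffff) 47 (slp 47) 0 2300 = true := by decide +kernel
theorem c48 : chkDef 16 (appT tabs t98 0xffff) 48 (slp 48) 0 2300 = true := by decide +kernel
theorem c49 : chkDef 16 (appT tabs t98 0xffff) 49 (slp 49) 0 2300 = true := by decide +kernel
theorem c50 : chkDef 16 (appT tabs t98 0xffff) 50 (slp 50) 0 2300 = true := by decide +kernel
theorem c51 : chkDef 16 (appT tabs t98 0xffff) 51 (slp 51) 0 2300 = true := by decide +kernel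
theorem c52 : chkDef 16 (appT tabs t98 0xffff) 52 (slp 52) 0 2300 = true := by decide +kernel
theorem c53 : chkDef 16 (appT tabs t98 0xffff) 53 (slp 53) 0 2300 = true := by decide +kernel
theorem c54 : chkDef 16 (appT tabs t98 0xffff) 54 (slp 54) 0 2300 = true := by decide +kernel
theorem c55 : chkDef 16 (appT tabs t98 0xffff) 55 (slp 55) 0 2300 = true := by decide +kernel
theorem c56 : chkDef 16 (appT tabs t98 0xffff) 56 (slp 56) 0 2300 = true := by decide +kernel
theorem c57 : chkDef 16 (appT tabs t98 0xffff) 57 (slp 57) 0 2300 = true := by decide +kernel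
theorem c58 : chkDef 16 (appT tabs t98 0xffff) 58 (slp 58) 0 2300 = true := by decide +kernel
theorem c59 : chkDef 16 (appT tabs t98 0xffff) 59 (slp 59) 0 2300 = true := by decide +kernel
theorem c60 : chkDef 16 (appT tabs t98 0xffff) 60 (slp 60) 0 2300 = true := by decide +kernel
theorem c61 : chkDef 16 (appT tabs t98 0xffff) 61 (slp 61) 0 2300 = true := by decide +kernel
theorem c62 : chkDef 16 (appT tabs t98 0xffff) 62 (slp 62) 0 2300 = true := by decide +kernel
theorem c63 : chkDef 16 (appT tabs t98 0xffff) 63 (slp 63) 0 2300 = true := by decide +kernel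
theorem c64 : chkDef 16 (appT tabs t98 0xffff) 64 (slp 64) 0 2300 = true := by decide +kernel
theorem c65 : chkDef 16 (appT tabs t98 0xffff) 65 (slp 65) 0 2300 = true := by decide +kernel
theorem c66 : chkDef 16 (appT tabs t98 0xffff) 66 (slp 66) 0 2300 = true := by decide +kernel
theorem c67 : chkDef 16 (appT tabs t98 0xffff) 67 (slp 67) 0 2300 = true := by decide +kernel
theorem c68 : chkDef 16 (appT tabs t98 0xffff) 68 (slp 68) 0 2300 = true := by decide +kernel
theorem c69 : chkDef 16 (appT tabs t98 0xffff) 69 (slp 69) 0 2300 = true := by decide +kernel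
theorem c70 : chkDef 16 (appT tabs t98 0xffff) 70 (slp 70) 0 2300 = true := by decide +kernel
theorem c71 : chkDef 16 (appT tabs t98 0xffff) 71 (slp 71) 0 2300 = true := by decide +kernel
theorem c72 : chkDef 16 (appT tabs t98 0xffff) 72 (slp 72) 0 2300 = true := by decide +kernel
theorem c73 : chkDef 16 (appT tabs t98 0xffff) 73 (slp 73) 0 2300 = true := by decide +kernel
theorem c74 : chkDef 16 (appT tabs t98 0xffff) 74 (slp 74) 0 2300 = true := by decide +kernel
theorem c75 : chkDef 16 (appT tabs t98 0xffff) 75 (slp 75) 0 2300 = true := by decide +kernel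
theorem c76 : chkDef 16 (appT tabs t98 0xffff) 76 (slp 76) 0 2300 = true := by decide +kernel
theorem c77 : chkDef 16 (appT tabs t98 0xffff) 77 (slp 77) 0 2300 = true := by decide +kernel
theorem c78 : chkDef 16 (appT tabs t98 0xffff) 78 (slp 78) 0 2300 = true := by decide +kernel
theorem c79 : chkDef 16 (appT tabs t98 0xffff) 79 (slp 79) 0 2300 = true := by decide +kernel
theorem c80 : chkDef 16 (appT tabs t98 0xffff) 80 (slp 80) 0 2300 = true := by decide +kernel
theorem c81 : chkDef 16 (appT tabs t98 0xffff) 81 (slp 81) 0 2300 = true := by decide +kernel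
theorem c82 : chkDef 16 (appT tabs t98 0xffff) 82 (slp 82) 0 2300 = true := by decide +kernel
theorem c83 : chkDef 16 (appT tabs t98 0xffff) 83 (slp 83) 0 2300 = true := by decide +kernel
theorem c84 : chkDef 16 (appT tabs t98 0xffff) 84 (slp 84) 0 2300 = true := by decide +kernel
theorem c85 : chkDef 16 (appT tabs t98 0xffff) 85 (slp 85) 0 2300 = true := by decide +kernel
theorem c86 : chkDef 16 (appT tabs t98 0xffff) 86 (slp 86) 0 2300 = true := by decide +kernel
theorem c87 : chkDef 16 (appT tabs t98 0xffff) 87 (slp 87) 0 2300 = true := by decide +kernel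
theorem c88 : chkDef 16 (appT tabs t98 0xffff) 88 (slp 88) 0 2300 = true := by decide +kernel
theorem c89 : chkDef 16 (appT tabs t98 0xffff) 89 (slp 89) 0 2300 = true := by decide +kernel
theorem c90 : chkDef 16 (appT tabs t98 0xffff) 90 (slp 90) 0 2300 = true := by decide +kernel
theorem c91 : chkDef 16 (appT tabs t98 0xffff) 91 (slp 91) 0 2300 = true := by decide +kernel
theorem c92 : chkDef 16 (appT tabs t98 0xffff) 92 (slp 92) 0 2300 = true := by decide +kernel
theorem c93 : chkDef 16 (appT tabs t98 0xffff) 93 (slp 93) 0 2300 = true := by decide +kernel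
theorem c94 : chkDef 16 (appT tabs t98 0xffff) 94 (slp 94) 0 2300 = true := by decide +kernel
theorem c95 : chkDef 16 (appT tabs t98 0xffff) 95 (slp 95) 0 2300 = true := by decide +kernel
theorem c96 : chkDef 16 (appT tabs t98 0xffff) 96 (slp 96) 0 2300 = true := by decide +kernel
theorem c97 : chkDef 16 (appT tabs t98 0xffff) 97 (slp 97) 0 2300 = true := by decide +kernel
theorem c98 : chkDef 16 (appT tabs t98 0xffff) 98 (false, []) 0 2300 = true := by decide +kernel
theorem c99 : mc0.chk (appT tabs t98 0xffff) 1 2299 = true := by decide +kernel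
theorem c100 : mc1.chk (appT tabs t98 0xffff) 1 890 = true := by decide +kernel
theorem c101 : mc2.chk (appT tabs t98 0xffff) 1 41 = true := by decide +kernel
theorem c102 : mc3.chk (appT tabs t98 0xffff) 1 39 = true := by decide +kernel
theorem c103 : mc4.chk (appT tabs t98 0xffff) 1 3 = true := by decide +kernel
theorem c104 : mc5.chk (appT tabs t98 0xffff) 1 2 = true := by decide +kernel
theorem c105 : mc6.chk (appT tabs t98 0xffff) 1 31 = true := by decide +kernel
theorem c106 : mc7.chk (appT tabs t98 0xffff) 1 1 = true := by decide +kernel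
theorem c107 : mc8.chk (appT tabs t98 0xffff) 1 1 = true := by decide +kernel
theorem c108 : mc9.chk (appT tabs t98 0xffff) 1 1 = true := by decide +kernel
theorem c109 : mc10.chk (appT tabs t98 0xffff) 1 1 = true := by decide +kernel
theorem c110 : mc11.chk (appT tabs t98 0xffff) 1 1 = true := by decide +kernel
theorem c111 : okcb 2300 16 (bases mc) = true := by decide +kernel
theorem c112 : headAll (appT tabs t98 0xffff) mc [] = true := by decide +kernel
theorem c113 : tc0.head tcR = true := by decide +kernel
theorem c114 : allL (fun a => tc0.chk a 0 tc0.N) tc0.S = true := by decide +kernel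
theorem c115 : tc1.head tcR = true := by decide +kernel
theorem c116 : allL (fun a => tc1.chk a 0 tc1.N) tc1.S = true := by decide +kernel
theorem c117 : tc2.head tcR = true := by decide +kernel
theorem c118 : allL (fun a => tc2.chk a 0 tc2.N) tc2.S = true := by decide +kernel
theorem c119 : tc3.head tcR = true := by decide +kernel
theorem c120 : allL (fun a => tc3.chk a 0 tc3.N) tc3.S = true := by decide +kernel
theorem c121 : tc4.head tcR = true := by decide +kernel
theorem c122 : allL (fun a => tc4.chk a 0 tc4.N) tc4.S = true := by decide +kernel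
theorem c123 : tc5.head tcR = true := by decide +kernel
theorem c124 : allL (fun a => tc5.chk a 0 tc5.N) tc5.S = true := by decide +kernel
theorem c125 : tc6.head tcR = true := by decide +kernel
theorem c126 : allL (fun a => tc6.chk a 0 tc6.N) tc6.S = true := by decide +kernel
theorem c127 : tc7.head tcR = true := by decide +kernel
theorem c128 : allL (fun a => tc7.chk a 0 tc7.N) tc7.S = true := by decide +kernel
theorem c129 : tc8.head tcR = true := by decide +kernel
theorem c130 : allL (fun a => tc8.chk a 0 tc8.N) tc8.S = true := by decide +kernel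
theorem c131 : tc9.head tcR = true := by decide +kernel
theorem c132 : allL (fun a => tc9.chk a 0 tc9.N) tc9.S = true := by decide +kernel
theorem c133 : tc10.head tcR = true := by decide +kernel
theorem c134 : allL (fun a => tc10.chk a 0 tc10.N) tc10.S = true := by decide +kernel
theorem c135 : tc11.head tcR = true := by decide +kernel
theorem c136 : allL (fun a => tc11.chk a 0 tc11.N) tc11.S = true := by decide +kernel
theorem c137 : tcLink tc [] [49,50,51,52,53,54,55,56,57,58,59,60,61] = true := by decide +kernel
theorem c138 : oneAll 16 (appT tabs t98 0xffff) [49,49] 0 2300 = true := by decide +kernel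
theorem c139 : oneAll 16 (appT tabs t98 0xffff) [50,50] 0 2300 = true := by decide +kernel
theorem c140 : oneAll 16 (appT tabs t98 0xffff) [50,49,50,49] 0 2300 = true := by decide +kernel
theorem c141 : oneAll 16 (appT tabs t98 0xffff) [51,51] 0 2300 = true := by decide +kernel
theorem c142 : oneAll 16 (appT tabs t98 0xffff) [51,49,51,49] 0 2300 = true := by decide +kernel
theorem c143 : oneAll 16 (appT tabs t98 0xffff) [51,50,51,50] 0 2300 = true := by decide +kernel
theorem c144 : oneAll 16 (appT tabs t98 0xffff) [52,52] 0 2300 = true := by decide +kernel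
theorem c145 : oneAll 16 (appT tabs t98 0xffff) [52,49,52,50] 0 2300 = true := by decide +kernel
theorem c146 : oneAll 16 (appT tabs t98 0xffff) [52,51,52,51] 0 2300 = true := by decide +kernel
theorem c147 : oneAll 16 (appT tabs t98 0xffff) [53,53] 0 2300 = true := by decide +kernel
theorem c148 : oneAll 16 (appT tabs t98 0xffff) [53,51,53,51] 0 2300 = true := by decide +kernel
theorem c149 : oneAll 16 (appT tabs t98 0xffff) [53,52,53,52] 0 2300 = true := by decide +kernel
theorem c150 : oneAll 16 (appT tabs t98 0xffff) [53,49,53,50,51] 0 2300 = true := by decide +kernel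
theorem c151 : oneAll 16 (appT tabs t98 0xffff) [54,54] 0 2300 = true := by decide +kernel
theorem c152 : oneAll 16 (appT tabs t98 0xffff) [55,55] 0 2300 = true := by decide +kernel
theorem c153 : oneAll 16 (appT tabs t98 0xffff) [54,51,54,51] 0 2300 = true := by decide +kernel
theorem c154 : oneAll 16 (appT tabs t98 0xffff) [54,52,54,52] 0 2300 = true := by decide +kernel
theorem c155 : oneAll 16 (appT tabs t98 0xffff) [55,52,55,52] 0 2300 = true := by decide +kernel
theorem c156 : oneAll 16 (appT tabs t98 0xffff) [54,53,54,53] 0 2300 = true := by decide +kernel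
theorem c157 : oneAll 16 (appT tabs t98 0xffff) [55,53,55,53] 0 2300 = true := by decide +kernel
theorem c158 : oneAll 16 (appT tabs t98 0xffff) [54,55,54,55] 0 2300 = true := by decide +kernel
theorem c159 : oneAll 16 (appT tabs t98 0xffff) [55,49,50,55,49,50] 0 2300 = true := by decide +kernel
theorem c160 : oneAll 16 (appT tabs t98 0xffff) [54,49,54,49,54,49,54,49] 0 2300 = true := by decide +kernel
theorem c161 : oneAll 16 (appT tabs t98 0xffff) [55,49,54,49,55,49,54,49] 0 2300 = true := by decide +kernel
theorem c162 : oneAll 16 (appT tabs t98 0xffff) [54,50,54,49,54,50,54,49] 0 2300 = true := by decide +kernel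
theorem c163 : oneAll 16 (appT tabs t98 0xffff) [55,49,55,49,55,49,55,49] 0 2300 = true := by decide +kernel
theorem c164 : oneAll 16 (appT tabs t98 0xffff) [55,51,55,49,55,51,55,49] 0 2300 = true := by decide +kernel
theorem c165 : oneAll 16 (appT tabs t98 0xffff) [54,55,51,49,50,55,54,49,50,51] 0 2300 = true := by decide +kernel
theorem c166 : oneAll 16 (appT tabs t98 0xffff) [56,56] 0 2300 = true := by decide +kernel
theorem c167 : oneAll 16 (appT tabs t98 0xffff) [56,53,56,53] 0 2300 = true := by decide +kernel
theorem c168 : oneAll 16 (appT tabs t98 0xffff) [56,51,56,52,53] 0 2300 = true := by decide +kernel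
theorem c169 : oneAll 16 (appT tabs t98 0xffff) [56,54,56,51,52,53,54] 0 2300 = true := by decide +kernel
theorem c170 : oneAll 16 (appT tabs t98 0xffff) [56,49,50,56,49,50,51,52] 0 2300 = true := by decide +kernel
theorem c171 : oneAll 16 (appT tabs t98 0xffff) [56,55,56,50,52,54,55,50,55] 0 2300 = true := by decide +kernel
theorem c172 : oneAll 16 (appT tabs t98 0xffff) [56,49,56,49,56,49,51,55,51,55] 0 2300 = true := by decide +kernel
theorem c173 : oneAll 16 (appT tabs t98 0xffff) [50,56,55,50,56,55,50,56,55] 0 2300 = true := by decide +kernel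
theorem c174 : oneAll 16 (appT tabs t98 0xffff) [57,57] 0 2300 = true := by decide +kernel
theorem c175 : oneAll 16 (appT tabs t98 0xffff) [57,51,57,51] 0 2300 = true := by decide +kernel
theorem c176 : oneAll 16 (appT tabs t98 0xffff) [57,52,57,52] 0 2300 = true := by decide +kernel
theorem c177 : oneAll 16 (appT tabs t98 0xffff) [57,53,57,53] 0 2300 = true := by decide +kernel
theorem c178 : oneAll 16 (appT tabs t98 0xffff) [57,56,57,56] 0 2300 = true := by decide +kernel
theorem c179 : oneAll 16 (appT tabs t98 0xffff) [57,49,50,57,49,50] 0 2300 = true := by decide +kernel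
theorem c180 : oneAll 16 (appT tabs t98 0xffff) [57,54,57,51,52,53,54] 0 2300 = true := by decide +kernel
theorem c181 : oneAll 16 (appT tabs t98 0xffff) [57,55,57,49,50,52,53,55] 0 2300 = true := by decide +kernel
theorem c182 : oneAll 16 (appT tabs t98 0xffff) [57,49,54,49,57,49,51,54,49] 0 2300 = true := by decide +kernel
theorem c183 : oneAll 16 (appT tabs t98 0xffff) [57,49,56,57,49,57,49,56,49] 0 2300 = true := by decide +kernel
theorem c184 : oneAll 16 (appT tabs t98 0xffff) [58,58] 0 2300 = true := by decide +kernel
theorem c185 : oneAll 16 (appT tabs t98 0xffff) [58,57,58,57] 0 2300 = true := by decide +kernel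
theorem c186 : oneAll 16 (appT tabs t98 0xffff) [58,53,58,53,57] 0 2300 = true := by decide +kernel
theorem c187 : oneAll 16 (appT tabs t98 0xffff) [58,49,58,49,58,49] 0 2300 = true := by decide +kernel
theorem c188 : oneAll 16 (appT tabs t98 0xffff) [58,50,58,50,58,50] 0 2300 = true := by decide +kernel
theorem c189 : oneAll 16 (appT tabs t98 0xffff) [58,56,49,50,58,49,50,56] 0 2300 = true := by decide +kernel
theorem c190 : oneAll 16 (appT tabs t98 0xffff) [58,54,57,54,58,51,52,53] 0 2300 = true := by decide +kernel
theorem c191 : oneAll 16 (appT tabs t98 0xffff) [58,56,51,56,58,49,51,57,49] 0 2300 = true := by decide +kernel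
theorem c192 : oneAll 16 (appT tabs t98 0xffff) [54,58,54,49,54,51,58,54,51,49] 0 2300 = true := by decide +kernel
theorem c193 : oneAll 16 (appT tabs t98 0xffff) [58,55,56,58,56,58,55,58,49,50] 0 2300 = true := by decide +kernel
theorem c194 : oneAll 16 (appT tabs t98 0xffff) [58,55,49,58,51,58,49,55,58,52] 0 2300 = true := by decide +kernel
theorem c195 : oneAll 16 (appT tabs t98 0xffff) [58,50,55,49,58,55,58,51,54,50,54,55] 0 2300 = true := by decide +kernel
theorem c196 : oneAll 16 (appT tabs t98 0xffff) [59,59] 0 2300 = true := by decide +kernel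
theorem c197 : oneAll 16 (appT tabs t98 0xffff) [59,49,59,49] 0 2300 = true := by decide +kernel
theorem c198 : oneAll 16 (appT tabs t98 0xffff) [59,53,59,53] 0 2300 = true := by decide +kernel
theorem c199 : oneAll 16 (appT tabs t98 0xffff) [59,56,59,56] 0 2300 = true := by decide +kernel
theorem c200 : oneAll 16 (appT tabs t98 0xffff) [59,57,59,57] 0 2300 = true := by decide +kernel
theorem c201 : oneAll 16 (appT tabs t98 0xffff) [59,50,59,49,51] 0 2300 = true := by decide +kernel
theorem c202 : oneAll 16 (appT tabs t98 0xffff) [59,54,59,50,54,55,50,54] 0 2300 = true := by decide +kernel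
theorem c203 : oneAll 16 (appT tabs t98 0xffff) [59,58,59,58,59,58,59,58] 0 2300 = true := by decide +kernel
theorem c204 : oneAll 16 (appT tabs t98 0xffff) [54,58,54,59,54,58,54,59,54,58,54,59] 0 2300 = true := by decide +kernel
theorem c205 : oneAll 16 (appT tabs t98 0xffff) [60,60] 0 2300 = true := by decide +kernel
theorem c206 : oneAll 16 (appT tabs t98 0xffff) [60,49,60,49] 0 2300 = true := by decide +kernel
theorem c207 : oneAll 16 (appT tabs t98 0xffff) [60,50,60,50] 0 2300 = true := by decide +kernel
theorem c208 : oneAll 16 (appT tabs t98 0xffff) [60,56,60,56] 0 2300 = true := by decide +kernel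
theorem c209 : oneAll 16 (appT tabs t98 0xffff) [60,58,60,58] 0 2300 = true := by decide +kernel
theorem c210 : oneAll 16 (appT tabs t98 0xffff) [60,51,60,50,55,49,51,55] 0 2300 = true := by decide +kernel
theorem c211 : oneAll 16 (appT tabs t98 0xffff) [60,55,51,60,51,55] 0 2300 = true := by decide +kernel
theorem c212 : oneAll 16 (appT tabs t98 0xffff) [60,59,60,59,60,59,60,59] 0 2300 = true := by decide +kernel
theorem c213 : oneAll 16 (appT tabs t98 0xffff) [60,59,58,56,58,59,60,59,58,56,58,59,60,51,55,51,55,56,59,58,56,58,59] 0 2300 = true := by decide +kernel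
theorem c214 : oneAll 16 (appT tabs t98 0xffff) [61,61] 0 2300 = true := by decide +kernel
theorem c215 : oneAll 16 (appT tabs t98 0xffff) [61,49,61,49] 0 2300 = true := by decide +kernel
theorem c216 : oneAll 16 (appT tabs t98 0xffff) [61,50,61,50] 0 2300 = true := by decide +kernel
theorem c217 : oneAll 16 (appT tabs t98 0xffff) [61,51,61,51] 0 2300 = true := by decide +kernel
theorem c218 : oneAll 16 (appT tabs t98 0xffff) [61,52,61,52] 0 2300 = true := by decide +kernel
theorem c219 : oneAll 16 (appT tabs t98 0xffff) [61,53,61,53] 0 2300 = true := by decide +kernel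
theorem c220 : oneAll 16 (appT tabs t98 0xffff) [61,56,61,56] 0 2300 = true := by decide +kernel
theorem c221 : oneAll 16 (appT tabs t98 0xffff) [61,57,61,57] 0 2300 = true := by decide +kernel
theorem c222 : oneAll 16 (appT tabs t98 0xffff) [61,59,61,59] 0 2300 = true := by decide +kernel
theorem c223 : oneAll 16 (appT tabs t98 0xffff) [61,60,61,60,61,60] 0 2300 = true := by decide +kernel
theorem c224 : oneAll 16 (appT tabs t98 0xffff) [61,55,61,51,53,55,51] 0 2300 = true := by decide +kernel
theorem c225 : oneAll 16 (appT tabs t98 0xffff) [61,58,61,56,57,58,56] 0 2300 = true := by decide +kernel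
theorem c226 : oneAll 16 (appT tabs t98 0xffff) [61,60,59,60,61,58,50,59,55,58,59,60,54,58,59,60,61,54,50,57,58,49,55,58,60,59,58,49,60,55,58,59,60,57] 0 2300 = true := by decide +kernel
theorem c227 : eqAll 16 (appT tabs t98 0xffff) [0] (nth inW [] 0) 0 2300 = true := by decide +kernel
theorem c228 : eqAll 16 (appT tabs t98 0xffff) [1] (nth inW [] 1) 0 2300 = true := by decide +kernel
theorem c229 : eqAll 16 (appT tabs t98 0xffff) [2] (nth inW [] 2) 0 2300 = true := by decide +kernel

end Cfsg.Agent.CG.Co2
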