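import Cfsg.Agent.Lib.Grp.Co2.D0

set_option autoImplicit false
set_option maxRecDepth 100000
set_option Elab.async false

namespace Cfsg.Agent.CG.Co2

noncomputable def tabs : List ℕ := [t0,t1,t2,t3,t4,t5,t6,t7,t8,t9,t10,t11,t12,t13,t14,t15,t16,t17,t18,t19,t20,t21,t22,t23,t24,t25,t26,t27,t28,t29,t30,t31,t32,t33,t34,t35,t36,t37,t38,t39,t40,t41,t42,t43,t44,t45,t46,t47,t48,t49,t50,t51,t52,t53,t54,t55,t56,t57,t58,t59,t60,t61,t62,t63,t64,t65,t66,t67,t68,t69,t70,t71,t72,t73,t74,t75,t76,t77,t78,t79,t80,t81,t82,t83,t84,t85,t86,t87,t88,t89,t90,t91,t92,t93,t94,t95,t96,t97]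
noncomputable abbrev app : ℕ → ℕ → ℕ := appT tabs t98 0xffff
noncomputable def slpL : List (Bool × List ℕ) := [(false,[]),
  (false,[]),
  (false,[]),
  (false,[0,1,1,0,1,0,2,0,1,1]),
  (true,[3]),
  (false,[0,1]),
  (true,[5]),
  (false,[5,5,5,5,5,5,5,5,5,5,5,5,5,5]),
  (false,[3]),
  (true,[8]),
  (false,[4,2,3,2,0,4,2,3,0,3,6,4,7,3,5,4,0,4,1,3,0,1,4,1,3]),
  (false,[10,8,10,8,10,8,10]),
  (true,[11]),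
  (false,[10,8,10,12,12,10,8]),
  (false,[12,13,10,13,10,11,9]),
  (true,[14]),
  (false,[13,8,10,11,10,13,11]),
  (true,[16]),
  (false,[8,10,13,14,14,14,10,13,10,16,15,17]),
  (true,[18]),
  (false,[13,8,16,15,16,11,8,8,17,10,16,16,10]),
  (true,[20]),
  (false,[13,10,17,14,16,13,10,14,8,13,8,13,16]),
  (true,[22]),
  (false,[18,23,23,18,8,14,9,9,14,13,11,11,13,17,8,10,8]),
  (true,[24]),
  (false,[18,22,20,18,23,8,16,9,9,15,15,10,13,9,9,14,9]),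
  (true,[26]),
  (false,[24,26,26,19,19,19,22,22,9,9,13,16,8,17,13,11,8,11,11]),
  (true,[28]),
  (false,[25,27,24,27,23,8,8,14,9,15,17,10,15,15,9,10,12,10]),
  (true,[30]),
  (false,[24,27,25,26,20,23,18,18,9,13,9,13,16,13,17,9,15,16,16,14]),
  (true,[32]),
  (false,[28,31,26,25,25,18,18,20,23,8,16,8,8,10,8,17,13,8,13,9,10]),
  (true,[34]),
  (false,[35,35,33,30,28,27,25,27,18,21,18,18,18,15,13,8,8,15,13,11,14,13,8,13,17]),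
  (true,[36]),
  (false,[36,35,35,31,28,30,26,24,21,23,19,22,18,17,10,14,14,10,12,13,11,11,9,11]),
  (true,[38]),
  (false,[37,28,27,21,21,21,18,13,15,8,10,15,15,15,12,14,16,12,13,8]),
  (true,[40]),
  (false,[37,34,33,28,24,24,23,20,18,18,13,17,9,15,16,16,12,9,17,13,10]),
  (false,[39,39,41,34,28,30,25,27,27,20,23,20,22,13,9,16,15,8,10,9,10,17,10,13,16]),
  (false,[43,39,42,38,37,31,24,24,19,20,9,9,15,10,11,15,12,16,14,8,17,10]),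
  (true,[44]),
  (false,[45,43,42,37,35,30,29,24,26,26,18,18,18,21,14,17,14,11,13,14,9,12,10,13,11]),
  (false,[45,40,42,36,34,29,31,32,29,25,26,24,20,18,20,15,16,9,16,14,10,9,16,15,17,13,14]),
  (false,[47,46,39,39,41,41,34,28,31,31,26,25,19,23,18,23,17,13,17,10,16,13,10,8,12,10,16]),
  (false,[48]),
  (false,[47]),
  (false,[46,48]),
  (false,[44,48]),
  (false,[43,44,46,47,48]),
  (false,[40,38,38,43,44,46,48]),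
  (false,[42,38,43,46,47,48]),
  (false,[37,38,38,43,46]),
  (false,[35,36,41,38,38,43,44,46]),
  (false,[28,31,28,34,36,41,39,44,46]),
  (false,[24,24,27,33,28,42,39,43,46,47,48]),
  (false,[19,22,21,22,25,27,27,33,34,34,36,44,48]),
  (false,[13,17,10,16,16,19,20,19,26,25,26,25,30,32,32,28,34,34,37,38,42,41,43,44,46,48]),
  (false,[48]),
  (false,[47]),
  (false,[40,38,43,46]),
  (false,[41,39,43,46,47,48]),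
  (false,[38,38,46,48]),
  (false,[31,28,37,40,40,38,38,44,46]),
  (false,[32,34,34,37,42,43,44,46]),
  (false,[26,25,26,25,31,28,35,42,40,38,47]),
  (false,[10,8,15,17,8,21,22,21,23,18,24,26,24,31,28,35,38,42,41,43,46,48]),
  (false,[13,17,10,16,16,19,20,19,32,34,34,36,39,42,38,46,47,48]),
  (false,[14,9,14,14,9,22,18,23,24,27,27,28,30,35,36,42,39,44,47,48]),
  (true,[72]),
  (false,[9,16,14,16,8,21,19,20,18,26,24,29,31,28,37,42,41,39,44]),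
  (true,[74]),
  (false,[23,23,21,21,26,25,29,29,34,34,37,44]),
  (true,[76]),
  (false,[20,19,19,20,20,26,24,26,28,33,30,28,34,36,40,40,38,43,44,48]),
  (true,[78]),
  (false,[26,26,30,29,34,36,41,39,46]),
  (true,[80]),
  (false,[24,26,30,32,32,28,37,39,47]),
  (true,[82]),
  (false,[32,34,41,43,46,47]),
  (true,[84]),
  (false,[28,28,34,34,37,40,40,38,48]),
  (true,[86]),
  (false,[34,37,40,40,43]),
  (true,[88]),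
  (false,[37,41,38,43,44,46]),
  (true,[90]),
  (false,[40,38,43,44,47,48]),
  (true,[92]),
  (false,[44,46]),
  (false,[47,48]),
  (false,[8,8,8,8,8]),
  (true,[96])]
noncomputable def slp (a : ℕ) : Bool × List ℕ := nth slpL (false, []) a
noncomputable def invL : List ℕ := [0,2,1,4,3,6,5,7,9,8,10,12,11,13,15,14,17,16,19,18,21,20,23,22,25,24,27,26,29,28,31,30,33,32,35,34,37,36,39,38,41,40,42,43,45,44,46,47,48,49,50,51,52,53,54,55,56,57,58,59,60,61,62,63,64,65,66,67,68,69,70,71,73,72,75,74,77,76,79,78,81,80,83,82,85,84,87,86,89,88,91,90,93,92,94,95,97,96]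
noncomputable def inv (a : ℕ) : ℕ := nth invL 98 a
noncomputable def bs : List ℕ := [32,9008,18208,18064,17744,18144,2704,28752,5472,9488,4800,20704]
noncomputable def mc0 : Lvl := ⟨32, [8,9,10,13,14,15,16,17], 2300,
  fun i => look 0xffff mc0c (Nat.mul 16 i), fun i => look 0xfff mc0p (Nat.mul 12 i),
  fun i => look 255 mc0l (Nat.mul 8 i), fun i => look 255 mc0i (Nat.mul 8 i), fun x => look 0xffff mc0q x, 6⟩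
noncomputable def mc1 : Lvl := ⟨9008, [18,19,20,21,22,23], 891,
  fun i => look 0xffff mc1c (Nat.mul 16 i), fun i => look 0xfff mc1p (Nat.mul 12 i),
  fun i => look 255 mc1l (Nat.mul 8 i), fun i => look 255 mc1i (Nat.mul 8 i), fun x => look 0xffff mc1q x, 5⟩
noncomputable def mc2 : Lvl := ⟨18208, [24,25,26,27], 42,
  fun i => look 0xffff mc2c (Nat.mul 16 i), fun i => look 0xff mc2p (Nat.mul 8 i),
  fun i => look 255 mc2l (Nat.mul 8 i), fun i => look 255 mc2i (Nat.mul 8 i), fun x => look 0xffff mc2q x, 4⟩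
noncomputable def mc3 : Lvl := ⟨18064, [28,29,30,31,32,33], 40,
  fun i => look 0xffff mc3c (Nat.mul 16 i), fun i => look 0xff mc3p (Nat.mul 8 i),
  fun i => look 255 mc3l (Nat.mul 8 i), fun i => look 255 mc3i (Nat.mul 8 i), fun x => look 0xffff mc3q x, 4⟩
noncomputable def mc4 : Lvl := ⟨17744, [34,35], 4,
  fun i => look 0xffff mc4c (Nat.mul 16 i), fun i => look 0xf mc4p (Nat.mul 4 i),
  fun i => look 255 mc4l (Nat.mul 8 i), fun i => look 255 mc4i (Nat.mul 8 i), fun x => look 0xffff mc4q x, 2⟩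
noncomputable def mc5 : Lvl := ⟨18144, [36,37], 3,
  fun i => look 0xffff mc5c (Nat.mul 16 i), fun i => look 0xf mc5p (Nat.mul 4 i),
  fun i => look 255 mc5l (Nat.mul 8 i), fun i => look 255 mc5i (Nat.mul 8 i), fun x => look 0xffff mc5q x, 1⟩
noncomputable def mc6 : Lvl := ⟨2704, [38,39,40,41,42], 32,
  fun i => look 0xffff mc6c (Nat.mul 16 i), fun i => look 0xff mc6p (Nat.mul 8 i),
  fun i => look 255 mc6l (Nat.mul 8 i), fun i => look 255 mc6i (Nat.mul 8 i), fun x => look 0xffff mc6q x, 4⟩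
noncomputable def mc7 : Lvl := ⟨28752, [43], 2,
  fun i => look 0xffff mc7c (Nat.mul 16 i), fun i => look 0xf mc7p (Nat.mul 4 i),
  fun i => look 255 mc7l (Nat.mul 8 i), fun i => look 255 mc7i (Nat.mul 8 i), fun x => look 0xffff mc7q x, 1⟩
noncomputable def mc8 : Lvl := ⟨5472, [44,45], 2,
  fun i => look 0xffff mc8c (Nat.mul 16 i), fun i => look 0xf mc8p (Nat.mul 4 i),
  fun i => look 255 mc8l (Nat.mul 8 i), fun i => look 255 mc8i (Nat.mul 8 i), fun x => look 0xffff mc8q x, 1⟩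
noncomputable def mc9 : Lvl := ⟨9488, [46], 2,
  fun i => look 0xffff mc9c (Nat.mul 16 i), fun i => look 0xf mc9p (Nat.mul 4 i),
  fun i => look 255 mc9l (Nat.mul 8 i), fun i => look 255 mc9i (Nat.mul 8 i), fun x => look 0xffff mc9q x, 1⟩
noncomputable def mc10 : Lvl := ⟨4800, [47], 2,
  fun i => look 0xffff mc10c (Nat.mul 16 i), fun i => look 0xf mc10p (Nat.mul 4 i),
  fun i => look 255 mc10l (Nat.mul 8 i), fun i => look 255 mc10i (Nat.mul 8 i), fun x => look 0xffff mc10q x, 1⟩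
noncomputable def mc11 : Lvl := ⟨20704, [48], 2,
  fun i => look 0xffff mc11c (Nat.mul 16 i), fun i => look 0xf mc11p (Nat.mul 4 i),
  fun i => look 255 mc11l (Nat.mul 8 i), fun i => look 255 mc11i (Nat.mul 8 i), fun x => look 0xffff mc11q x, 1⟩
noncomputable def mc : List Lvl := [mc0, mc1, mc2, mc3, mc4, mc5, mc6, mc7, mc8, mc9, mc10, mc11]
noncomputable def tcR : List (List ℕ) := [[49,49],
  [50,50],
  [50,49,50,49],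
  [51,51],
  [51,49,51,49],
  [51,50,51,50],
  [52,52],
  [52,49,52,50],
  [52,51,52,51],
  [53,53],
  [53,51,53,51],
  [53,52,53,52],
  [53,49,53,50,51],
  [54,54],
  [55,55],
  [54,51,54,51],
  [54,52,54,52],
  [55,52,55,52],
  [54,53,54,53],
  [55,53,55,53],
  [54,55,54,55],
  [55,49,50,55,49,50],
  [54,49,54,49,54,49,54,49],
  [55,49,54,49,55,49,54,49],
  [54,50,54,49,54,50,54,49],
  [55,49,55,49,55,49,55,49],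
  [55,51,55,49,55,51,55,49],
  [54,55,51,49,50,55,54,49,50,51],
  [56,56],
  [56,53,56,53],
  [56,51,56,52,53],
  [56,54,56,51,52,53,54],
  [56,49,50,56,49,50,51,52],
  [56,55,56,50,52,54,55,50,55],
  [56,49,56,49,56,49,51,55,51,55],
  [50,56,55,50,56,55,50,56,55],
  [57,57],
  [57,51,57,51],
  [57,52,57,52],
  [57,53,57,53],
  [57,56,57,56],
  [57,49,50,57,49,50],
  [57,54,57,51,52,53,54],
  [57,55,57,49,50,52,53,55],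
  [57,49,54,49,57,49,51,54,49],
  [57,49,56,57,49,57,49,56,49],
  [58,58],
  [58,57,58,57],
  [58,53,58,53,57],
  [58,49,58,49,58,49],
  [58,50,58,50,58,50],
  [58,56,49,50,58,49,50,56],
  [58,54,57,54,58,51,52,53],
  [58,56,51,56,58,49,51,57,49],
  [54,58,54,49,54,51,58,54,51,49],
  [58,55,56,58,56,58,55,58,49,50],
  [58,55,49,58,51,58,49,55,58,52],
  [58,50,55,49,58,55,58,51,54,50,54,55],
  [59,59],
  [59,49,59,49],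
  [59,53,59,53],
  [59,56,59,56],
  [59,57,59,57],
  [59,50,59,49,51],
  [59,54,59,50,54,55,50,54],
  [59,58,59,58,59,58,59,58],
  [54,58,54,59,54,58,54,59,54,58,54,59],
  [60,60],
  [60,49,60,49],
  [60,50,60,50],
  [60,56,60,56],
  [60,58,60,58],
  [60,51,60,50,55,49,51,55],
  [60,55,51,60,51,55],
  [60,59,60,59,60,59,60,59],
  [60,59,58,56,58,59,60,59,58,56,58,59,60,51,55,51,55,56,59,58,56,58,59],
  [61,61],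
  [61,49,61,49],
  [61,50,61,50],
  [61,51,61,51],
  [61,52,61,52],
  [61,53,61,53],
  [61,56,61,56],
  [61,57,61,57],
  [61,59,61,59],
  [61,60,61,60,61,60],
  [61,55,61,51,53,55,51],
  [61,58,61,56,57,58,56],
  [61,60,59,60,61,58,50,59,55,58,59,60,54,58,59,60,61,54,50,57,58,49,55,58,60,59,58,49,60,55,58,59,60,57]]
noncomputable def tc0T : List ℕ := [0,0,0,0,0,0,0,0,0,0,0,0,0,0,0,0,0,0,0,0,0,0,0,0,0,0,0,0,0,0,0,0,0,0,0,0,0,0,0,0,0,0,0,0,0,0,0,0,0,tc0t49,tc0t50,tc0t51,tc0t52,tc0t53,tc0t54,tc0t55,tc0t56,tc0t57,tc0t58,tc0t59,tc0t60,tc0t61]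
noncomputable def tc0r : Tr Rule := (.node (.node (.node (.node (.node (.node (.node (.node (.node (.leaf ⟨61,[61],76,1⟩) (.leaf ⟨55,[49,50,55,49,50],21,0⟩)) (.leaf ⟨56,[58,55,58,49,50,58,55,56,58],55,4⟩)) (.node (.node (.leaf ⟨51,[61,51,61],79,3⟩) (.leaf ⟨49,[58,56,51,56,58,49,51,57],53,8⟩)) (.leaf ⟨50,[54,49,54,50,54,49,54],24,5⟩))) (.node (.node (.node (.leaf ⟨53,[56,53,56],29,3⟩) (.leaf ⟨49,[55,51,55,49,55,51,55],26,7⟩)) (.leaf ⟨49,[57,49,56,57,49,57,49,56],45,8⟩)) (.node (.node (.leaf ⟨50,[55,49,50,55,49],21,5⟩) (.leaf ⟨58,[54,59,54,58,54,59,54,58,54,59,54],66,9⟩)) (.leaf ⟨55,[53,55,53],19,2⟩)))) (.node (.node (.node (.node (.leaf ⟨50,[60,50,60],69,3⟩) (.leaf ⟨58,[54,49,54,51,58,54,51,49,54],54,1⟩)) (.leaf ⟨51,[57,51,57],37,1⟩)) (.node (.node (.leaf ⟨60,[50,60,50],69,2⟩) (.leaf ⟨49,[55,49,55,49,55,49,55],25,3⟩))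 (.leaf ⟨50,[52,54,55,50,55,56,55,56],33,3⟩))) (.node (.node (.node (.leaf ⟨49,[51,59,50,59],63,3⟩) (.leaf ⟨60,[59,60,59,60,59,60,59],74,2⟩)) (.leaf ⟨60,[56,60,56],70,0⟩)) (.node (.leaf ⟨53,[51,53,51],10,0⟩) (.leaf ⟨52,[54,55,50,55,56,55,56,50],33,4⟩))))) (.node (.node (.node (.node (.node (.leaf ⟨56,[56],28,1⟩) (.leaf ⟨61,[53,61,53],81,2⟩)) (.leaf ⟨57,[49,58,56,51,56,58,49,51],53,7⟩)) (.node (.node (.leaf ⟨59,[56,59,56],61,2⟩) (.leaf ⟨56,[58,59,60,51,55,51,55,56,59,58,56,58,59,60,59,58,56,58,59,60,59,58],75,9⟩)) (.leaf ⟨51,[50,51,50],5,0⟩))) (.node (.node (.node (.leaf ⟨59,[49,51,59,50],63,2⟩) (.leaf ⟨55,[49,55,49,55,49,55,49],25,4⟩)) (.leaf ⟨58,[61,56,57,58,56,61],87,1⟩)) (.node (.node (.leaf ⟨58,[53,58,53,57],48,0⟩) (.leaf ⟨51,[55,60,51,60,50,55,49],72,6⟩)) (.leaf ⟨55,[61,51,53,55,51,61],86,1⟩)))) (.node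 (.node (.node (.node (.leaf ⟨50,[52,49,52],7,3⟩) (.leaf ⟨59,[54,58,54,59,54,58,54,59,54,58,54],66,7⟩)) (.leaf ⟨52,[54,52,54],16,1⟩)) (.node (.node (.leaf ⟨50,[57,49,50,57,49],41,5⟩) (.leaf ⟨59,[60,54,58,59,60,61,54,50,57,58,49,55,58,60,59,58,49,60,55,58,59,60,57,61,60,59,60,61,58,50,59,55,58],88,10⟩)) (.leaf ⟨51,[53,51,53],10,1⟩))) (.node (.node (.node (.leaf ⟨59,[49,59,49],59,2⟩) (.leaf ⟨49,[50,57,49,50,57],41,1⟩)) (.leaf ⟨54,[57,51,52,53,54,57],42,1⟩)) (.node (.leaf ⟨52,[53,54,57,54,57,51],42,4⟩) (.leaf ⟨54,[55,54,55],20,0⟩)))))) (.node (.node (.node (.node (.node (.node (.leaf ⟨49,[49],0,1⟩) (.leaf ⟨60,[55,51,60,51,55],73,0⟩)) (.leaf ⟨55,[57,55,57,49,50,52,53],43,7⟩)) (.node (.node (.leaf ⟨57,[61,57,61],83,3⟩) (.leaf ⟨54,[49,57,49,54,49,57,49,51],44,7⟩)) (.leaf ⟨55,[54,55,54],20,3⟩))) (.node (.node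 (.node (.leaf ⟨50,[51,50,51],5,3⟩) (.leaf ⟨61,[50,61,50],78,0⟩)) (.leaf ⟨50,[58,49,50,56,58,56,49],51,3⟩)) (.node (.node (.leaf ⟨50,[51,53,49,53],12,3⟩) (.leaf ⟨49,[50,55,49,50,55],21,4⟩)) (.leaf ⟨61,[49,61,49],77,0⟩)))) (.node (.node (.node (.node (.leaf ⟨54,[51,54,51],15,0⟩) (.leaf ⟨49,[54,58,54,49,54,51,58,54,51],54,9⟩)) (.leaf ⟨52,[51,52,51],8,2⟩)) (.node (.node (.leaf ⟨61,[56,61,56],82,2⟩) (.leaf ⟨59,[60,61,54,50,57,58,49,55,58,60,59,58,49,60,55,58,59,60,57,61,60,59,60,61,58,50,59,55,58,59,60,54,58],88,14⟩)) (.leaf ⟨50,[56,55,50,56,55,50,56,55],35,3⟩))) (.node (.node (.node (.leaf ⟨53,[57,58,53,58],48,3⟩) (.leaf ⟨51,[61,55,61,51,53,55],86,6⟩)) (.leaf ⟨61,[49,61,49],77,2⟩)) (.node (.leaf ⟨56,[58,56,49,50,58,49,50],51,7⟩) (.leaf ⟨51,[61,51,61],79,1⟩))))) (.node (.node (.node (.node (.node (.leaf ⟨52,[52],6,1⟩)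 (.leaf ⟨59,[54,59,50,54,55,50,54],64,0⟩)) (.leaf ⟨51,[58,49,55,58,52,58,55,49,58],56,4⟩)) (.node (.node (.leaf ⟨61,[59,61,59],84,2⟩) (.leaf ⟨50,[58,50,58,50,58],50,1⟩)) (.leaf ⟨49,[56,49,56,49,51,55,51,55,56],34,1⟩))) (.node (.node (.node (.leaf ⟨58,[49,58,49,58,49],49,4⟩) (.leaf ⟨59,[60,59,60,59,60,59,60],74,3⟩)) (.leaf ⟨57,[56,57,56],40,0⟩)) (.node (.node (.leaf ⟨53,[50,51,53,49],12,2⟩) (.leaf ⟨56,[49,50,51,52,56,49,50],32,3⟩)) (.leaf ⟨54,[58,51,52,53,58,54,57],52,3⟩)))) (.node (.node (.node (.node (.leaf ⟨53,[57,53,57],39,3⟩) (.leaf ⟨59,[56,59,56],61,0⟩)) (.leaf ⟨51,[57,49,58,56,51,56,58,49],53,6⟩)) (.node (.node (.leaf ⟨49,[50,58,49,50,56,58,56],51,2⟩) (.leaf ⟨58,[60,59,58,49,60,55,58,59,60,57,61,60,59,60,61,58,50,59,55,58,59,60,54,58,59,60,61,54,50,57,58,49,55],88,23⟩)) (.leaf ⟨55,[52,55,52],17,0⟩)))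 (.node (.node (.node (.leaf ⟨58,[59,58,59,58,59,58,59],65,5⟩) (.leaf ⟨49,[57,49,54,49,57,49,51,54],44,8⟩)) (.leaf ⟨49,[54,51,58,54,51,49,54,58,54],54,3⟩)) (.node (.leaf ⟨53,[52,53,52],11,0⟩) (.leaf ⟨58,[49,58,49,58,49],49,0⟩))))))) (.node (.node (.node (.node (.node (.node (.node (.leaf ⟨59,[59],58,1⟩) (.leaf ⟨52,[53,55,57,55,57,49,50],43,5⟩)) (.leaf ⟨55,[50,54,59,54,59,50,54],64,5⟩)) (.node (.node (.leaf ⟨53,[61,53,61],81,3⟩) (.leaf ⟨51,[49,54,58,54,49,54,51,58,54],54,8⟩)) (.leaf ⟨55,[57,49,50,52,53,55,57],43,1⟩))) (.node (.node (.node (.leaf ⟨57,[59,57,59],62,3⟩) (.leaf ⟨60,[50,55,49,51,55,60,51],72,2⟩)) (.leaf ⟨54,[56,51,52,53,54,56],31,1⟩)) (.node (.node (.leaf ⟨51,[53,51,53],10,3⟩) (.leaf ⟨58,[56,51,56,58,49,51,57,49],53,0⟩)) (.leaf ⟨52,[51,52,51],8,0⟩)))) (.node (.node (.node (.node (.leaf ⟨56,[59,56,59],61,3⟩)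 (.leaf ⟨54,[49,54,50,54,49,54,50],24,6⟩)) (.leaf ⟨57,[51,57,51],37,0⟩)) (.node (.node (.leaf ⟨60,[56,60,56],70,2⟩) (.leaf ⟨59,[58,49,60,55,58,59,60,57,61,60,59,60,61,58,50,59,55,58,59,60,54,58,59,60,61,54,50,57,58,49,55,58,60],88,25⟩)) (.leaf ⟨56,[50,52,54,55,50,55,56,55],33,2⟩))) (.node (.node (.node (.leaf ⟨49,[50,49,50],2,3⟩) (.leaf ⟨50,[58,50,58,50,58],50,5⟩)) (.leaf ⟨57,[49,50,57,49,50],41,0⟩)) (.node (.leaf ⟨57,[54,58,51,52,53,58,54],52,2⟩) (.leaf ⟨58,[50,58,50,58,50],50,0⟩))))) (.node (.node (.node (.node (.node (.leaf ⟨51,[51],3,1⟩) (.leaf ⟨51,[52,53,58,54,57,54,58],52,5⟩)) (.leaf ⟨49,[58,49,58,49,58],49,3⟩)) (.node (.node (.leaf ⟨59,[50,59,49,51],63,0⟩) (.leaf ⟨53,[54,56,54,56,51,52],31,5⟩)) (.leaf ⟨61,[55,61,51,53,55,51],86,0⟩))) (.node (.node (.node (.leaf ⟨51,[50,51,50],5,2⟩) (.leaf ⟨55,[49,55,51,55,49,55,51],26,2⟩))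 (.leaf ⟨61,[58,61,56,57,58,56],87,0⟩)) (.node (.node (.leaf ⟨57,[52,57,52],38,2⟩) (.leaf ⟨55,[60,51,60,50,55,49,51],72,7⟩)) (.leaf ⟨55,[52,55,52],17,2⟩)))) (.node (.node (.node (.node (.leaf ⟨51,[54,51,54],15,3⟩) (.leaf ⟨59,[50,54,55,50,54,59,54],64,2⟩)) (.leaf ⟨52,[57,52,57],38,1⟩)) (.node (.node (.leaf ⟨53,[55,51,61,55,61,51],86,4⟩) (.leaf ⟨58,[59,60,54,58,59,60,61,54,50,57,58,49,55,58,60,59,58,49,60,55,58,59,60,57,61,60,59,60,61,58,50,59,55],88,9⟩)) (.leaf ⟨50,[61,50,61],78,1⟩))) (.node (.node (.node (.leaf ⟨59,[58,59,58,59,58,59,58],65,6⟩) (.leaf ⟨54,[49,54,49,54,49,54,49],22,2⟩)) (.leaf ⟨58,[49,50,56,58,56,49,50],51,4⟩)) (.node (.leaf ⟨52,[49,52,50],7,0⟩) (.leaf ⟨61,[52,61,52],80,0⟩)))))) (.node (.node (.node (.node (.node (.node (.leaf ⟨54,[54],13,1⟩) (.leaf ⟨58,[54,51,49,54,58,54,49,54,51],54,6⟩))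 (.leaf ⟨58,[56,58,55,58,49,50,58,55,56],55,3⟩)) (.node (.node (.leaf ⟨59,[61,59,61],84,3⟩) (.leaf ⟨58,[51,54,50,54,55,58,50,55,49,58,55],57,6⟩)) (.leaf ⟨49,[60,49,60],68,1⟩))) (.node (.node (.node (.leaf ⟨51,[59,50,59,49],63,4⟩) (.leaf ⟨55,[49,55,51,55,49,55,51],26,6⟩)) (.leaf ⟨57,[58,56,61,58,61,56],87,4⟩)) (.node (.node (.leaf ⟨51,[56,52,53,56],30,1⟩) (.leaf ⟨54,[49,54,49,54,49,54,49],22,6⟩)) (.leaf ⟨56,[51,56,52,53],30,0⟩)))) (.node (.node (.node (.node (.leaf ⟨53,[59,53,59],60,3⟩) (.leaf ⟨49,[50,55,54,49,50,51,54,55,51],27,3⟩)) (.leaf ⟨54,[53,54,53],18,0⟩)) (.node (.node (.leaf ⟨51,[60,50,55,49,51,55,60],72,1⟩) (.leaf ⟨57,[61,60,59,60,61,58,50,59,55,58,59,60,54,58,59,60,61,54,50,57,58,49,55,58,60,59,58,49,60,55,58,59,60],88,33⟩)) (.leaf ⟨53,[56,53,56],29,1⟩))) (.node (.node (.node (.leaf ⟨51,[49,51,49],4,2⟩)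 (.leaf ⟨55,[49,55,49,55,49,55,49],25,0⟩)) (.leaf ⟨52,[55,52,55],17,1⟩)) (.node (.leaf ⟨50,[49,50,49],2,2⟩) (.leaf ⟨54,[52,54,52],16,2⟩))))) (.node (.node (.node (.node (.node (.leaf ⟨49,[59,49,59],59,3⟩) (.leaf ⟨56,[59,56,59],61,1⟩)) (.leaf ⟨51,[56,58,49,51,57,49,58,56],53,2⟩)) (.node (.node (.leaf ⟨60,[61,60,61,60,61],85,3⟩) (.leaf ⟨58,[55,58,51,54,50,54,55,58,50,55,49],57,4⟩)) (.leaf ⟨60,[51,55,60,55,51],73,3⟩))) (.node (.node (.node (.leaf ⟨53,[58,53,57,58],48,1⟩) (.leaf ⟨54,[49,54,49,54,49,54,49],22,0⟩)) (.leaf ⟨59,[61,59,61],84,1⟩)) (.node (.leaf ⟨53,[52,53,52],11,2⟩) (.leaf ⟨53,[54,53,54],18,1⟩)))) (.node (.node (.node (.node (.leaf ⟨58,[57,58,57],47,0⟩) (.leaf ⟨50,[55,56,55,56,50,52,54,55],33,7⟩)) (.leaf ⟨58,[53,57,58,53],48,2⟩)) (.node (.node (.leaf ⟨50,[58,50,58,50,58],50,3⟩) (.leaf ⟨60,[51,60,50,55,49,51,55],72,0⟩))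 (.leaf ⟨50,[51,50,51],5,1⟩))) (.node (.node (.node (.leaf ⟨51,[57,51,57],37,3⟩) (.leaf ⟨49,[57,49,56,49,57,49,56,57],45,4⟩)) (.leaf ⟨49,[54,49,54,49,54,49,54],22,5⟩)) (.node (.leaf ⟨56,[54,56,51,52,53,54],31,0⟩) (.leaf ⟨54,[59,54,59,50,54,55,50],64,7⟩)))))))) (.node (.node (.node (.node (.node (.node (.node (.node (.leaf ⟨60,[60],67,1⟩) (.leaf ⟨49,[50,56,58,56,49,50,58],51,5⟩)) (.leaf ⟨54,[59,50,54,55,50,54,59],64,1⟩)) (.node (.node (.leaf ⟨52,[61,52,61],80,3⟩) (.leaf ⟨54,[58,54,49,54,51,58,54,51,49],54,0⟩)) (.leaf ⟨57,[51,52,53,54,57,54],42,2⟩))) (.node (.node (.node (.leaf ⟨56,[53,56,53],29,0⟩) (.leaf ⟨58,[49,58,49,58,49],49,2⟩)) (.leaf ⟨56,[52,53,56,51],30,2⟩)) (.node (.node (.leaf ⟨53,[56,51,56,52],30,4⟩) (.leaf ⟨58,[49,51,57,49,58,56,51,56],53,4⟩)) (.leaf ⟨60,[61,60,61,60,61],85,5⟩)))) (.node (.node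 (.node (.node (.leaf ⟨54,[55,54,55],20,2⟩) (.leaf ⟨57,[49,56,49,57,49,56,57,49],45,5⟩)) (.leaf ⟨49,[59,49,59],59,1⟩)) (.node (.node (.leaf ⟨60,[59,60,59,60,59,60,59],74,4⟩) (.leaf ⟨58,[49,55,58,52,58,55,49,58,51],56,5⟩)) (.leaf ⟨49,[53,50,51,53],12,1⟩))) (.node (.node (.node (.leaf ⟨50,[59,49,51,59],63,1⟩) (.leaf ⟨57,[61,57,61],83,1⟩)) (.leaf ⟨53,[49,53,50,51],12,0⟩)) (.node (.leaf ⟨58,[56,49,50,58,49,50,56],51,0⟩) (.leaf ⟨54,[52,54,52],16,0⟩))))) (.node (.node (.node (.node (.node (.leaf ⟨57,[57],36,1⟩) (.leaf ⟨49,[61,49,61],77,1⟩)) (.leaf ⟨58,[57,58,57],47,2⟩)) (.node (.node (.leaf ⟨59,[53,59,53],60,2⟩) (.leaf ⟨61,[60,61,60,61,60],85,2⟩)) (.leaf ⟨57,[58,57,58],47,1⟩))) (.node (.node (.node (.leaf ⟨50,[49,50,49],2,0⟩) (.leaf ⟨55,[49,54,49,55,49,54,49],23,4⟩)) (.leaf ⟨61,[56,57,58,56,61,58],87,2⟩)) (.node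 (.node (.leaf ⟨57,[51,57,51],37,2⟩) (.leaf ⟨51,[55,49,55,51,55,49,55],26,5⟩)) (.leaf ⟨54,[57,54,58,51,52,53,58],52,1⟩)))) (.node (.node (.node (.node (.leaf ⟨49,[52,50,52],7,1⟩) (.leaf ⟨55,[54,55,54],20,1⟩)) (.leaf ⟨57,[54,57,51,52,53,54],42,0⟩)) (.node (.node (.leaf ⟨52,[56,49,50,56,49,50,51],32,7⟩) (.leaf ⟨59,[60,61,58,50,59,55,58,59,60,54,58,59,60,61,54,50,57,58,49,55,58,60,59,58,49,60,55,58,59,60,57,61,60],88,2⟩)) (.leaf ⟨56,[53,56,53],29,2⟩))) (.node (.node (.node (.leaf ⟨59,[57,59,57],62,2⟩) (.leaf ⟨55,[58,49,50,58,55,56,58,56,58],55,6⟩)) (.leaf ⟨57,[55,57,49,50,52,53,55],43,0⟩)) (.node (.leaf ⟨51,[52,51,52],8,1⟩) (.leaf ⟨54,[51,54,51],15,2⟩)))))) (.node (.node (.node (.node (.node (.node (.leaf ⟨50,[50],1,1⟩) (.leaf ⟨61,[53,61,53],81,0⟩)) (.leaf ⟨54,[57,54,57,51,52,53],42,6⟩)) (.node (.node (.leaf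 ⟨53,[57,53,57],39,1⟩) (.leaf ⟨55,[58,51,54,50,54,55,58,50,55,49,58],57,5⟩)) (.leaf ⟨60,[50,60,50],69,0⟩))) (.node (.node (.node (.leaf ⟨53,[55,53,55],19,3⟩) (.leaf ⟨55,[49,51,55,60,51,60,50],72,4⟩)) (.leaf ⟨58,[56,61,58,61,56,57],87,5⟩)) (.node (.node (.leaf ⟨52,[50,52,49],7,2⟩) (.leaf ⟨54,[49,55,49,54,49,55,49],23,2⟩)) (.leaf ⟨53,[61,53,61],81,1⟩)))) (.node (.node (.node (.node (.leaf ⟨49,[51,49,51],4,3⟩) (.leaf ⟨50,[57,49,50,57,49],41,2⟩)) (.leaf ⟨56,[51,52,53,54,56,54],31,2⟩)) (.node (.node (.leaf ⟨55,[51,61,55,61,51,53],86,5⟩) (.leaf ⟨61,[54,50,57,58,49,55,58,60,59,58,49,60,55,58,59,60,57,61,60,59,60,61,58,50,59,55,58,59,60,54,58,59,60],88,16⟩)) (.leaf ⟨56,[60,56,60],70,1⟩))) (.node (.node (.node (.leaf ⟨52,[53,56,51,56],30,3⟩) (.leaf ⟨55,[49,55,49,55,49,55,49],25,2⟩)) (.leaf ⟨60,[49,60,49],68,2⟩))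 (.node (.leaf ⟨51,[52,51,52],8,3⟩) (.leaf ⟨50,[55,49,50,55,49],21,2⟩))))) (.node (.node (.node (.node (.node (.leaf ⟨58,[60,58,60],71,3⟩) (.leaf ⟨53,[59,53,59],60,1⟩)) (.leaf ⟨55,[56,58,56,58,55,58,49,50,58],55,1⟩)) (.node (.node (.leaf ⟨61,[57,61,57],83,2⟩) (.leaf ⟨54,[51,58,54,51,49,54,58,54,49],54,4⟩)) (.leaf ⟨55,[56,55,56,50,52,54,55,50],33,8⟩))) (.node (.node (.node (.leaf ⟨57,[58,53,58,53],48,4⟩) (.leaf ⟨57,[59,57,59],62,1⟩)) (.leaf ⟨61,[57,61,57],83,0⟩)) (.node (.node (.leaf ⟨53,[51,53,51],10,2⟩) (.leaf ⟨56,[55,50,56,55,50,56,55,50],35,7⟩)) (.leaf ⟨50,[56,55,50,56,55,50,56,55],35,6⟩)))) (.node (.node (.node (.node (.leaf ⟨56,[57,56,57],40,3⟩) (.leaf ⟨50,[54,59,54,59,50,54,55],64,6⟩)) (.leaf ⟨57,[53,57,53],39,2⟩)) (.node (.node (.leaf ⟨51,[49,51,49],4,0⟩) (.leaf ⟨61,[60,61,60,61,60],85,0⟩)) (.leaf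 ⟨57,[53,57,53],39,0⟩))) (.node (.node (.node (.leaf ⟨50,[61,50,61],78,3⟩) (.leaf ⟨49,[51,57,49,58,56,51,56,58],53,5⟩)) (.leaf ⟨49,[54,50,54,49,54,50,54],24,7⟩)) (.node (.leaf ⟨59,[53,59,53],60,0⟩) (.leaf ⟨57,[49,50,57,49,50],41,3⟩))))))) (.node (.node (.node (.node (.node (.node (.node (.leaf ⟨58,[58],46,1⟩) (.leaf ⟨55,[51,55,49,55,51,55,49],26,4⟩)) (.leaf ⟨55,[60,55,51,60,51],73,5⟩)) (.node (.node (.leaf ⟨56,[61,56,61],82,3⟩) (.leaf ⟨49,[56,49,57,49,56,57,49,57],45,6⟩)) (.leaf ⟨49,[50,52,53,55,57,55,57],43,3⟩))) (.node (.node (.node (.leaf ⟨57,[58,57,58],47,3⟩) (.leaf ⟨52,[61,52,61],80,1⟩)) (.leaf ⟨49,[58,55,58,51,54,50,54,55,58,50,55],57,3⟩)) (.node (.node (.leaf ⟨52,[53,52,53],11,1⟩) (.leaf ⟨60,[61,60,61,60,61],85,1⟩)) (.leaf ⟨60,[58,60,58],71,0⟩)))) (.node (.node (.node (.node (.leaf ⟨56,[60,56,60],70,3⟩)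 (.leaf ⟨54,[49,54,49,54,49,54,49],22,4⟩)) (.leaf ⟨52,[53,52,53],11,3⟩)) (.node (.node (.leaf ⟨61,[52,61,52],80,2⟩) (.leaf ⟨55,[58,59,60,54,58,59,60,61,54,50,57,58,49,55,58,60,59,58,49,60,55,58,59,60,57,61,60,59,60,61,58,50,59],88,8⟩)) (.leaf ⟨51,[52,56,49,50,56,49,50],32,6⟩))) (.node (.node (.node (.leaf ⟨49,[51,49,51],4,1⟩) (.leaf ⟨49,[58,49,58,49,58],49,1⟩)) (.leaf ⟨56,[49,50,58,49,50,56,58],51,1⟩)) (.node (.leaf ⟨57,[56,57,56],40,2⟩) (.leaf ⟨56,[57,56,57],40,1⟩))))) (.node (.node (.node (.node (.node (.leaf ⟨53,[53],9,1⟩) (.leaf ⟨52,[53,58,54,57,54,58,51],52,6⟩)) (.leaf ⟨54,[55,50,54,59,54,59,50],64,4⟩)) (.node (.node (.leaf ⟨61,[60,61,60,61,60],85,4⟩) (.leaf ⟨58,[55,49,58,51,58,49,55,58,52],56,0⟩)) (.leaf ⟨61,[51,53,55,51,61,55],86,2⟩))) (.node (.node (.node (.leaf ⟨58,[50,58,50,58,50],50,4⟩) (.leaf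 ⟨54,[50,54,49,54,50,54,49],24,4⟩)) (.leaf ⟨56,[57,58,56,61,58,61],87,3⟩)) (.node (.node (.leaf ⟨59,[57,59,57],62,0⟩) (.leaf ⟨49,[51,55,60,51,60,50,55],72,5⟩)) (.leaf ⟨55,[49,50,55,49,50],21,3⟩)))) (.node (.node (.node (.node (.leaf ⟨52,[54,52,54],16,3⟩) (.leaf ⟨61,[59,61,59],84,0⟩)) (.leaf ⟨55,[58,52,58,55,49,58,51,58,49],56,7⟩)) (.node (.node (.leaf ⟨50,[56,58,56,49,50,58,49],51,6⟩) (.leaf ⟨61,[60,59,60,61,58,50,59,55,58,59,60,54,58,59,60,61,54,50,57,58,49,55,58,60,59,58,49,60,55,58,59,60,57],88,0⟩)) (.leaf ⟨61,[51,61,51],79,2⟩))) (.node (.node (.node (.leaf ⟨49,[61,49,61],77,3⟩) (.leaf ⟨54,[50,54,49,54,50,54,49],24,0⟩)) (.leaf ⟨50,[55,49,51,55,60,51,60],72,3⟩)) (.node (.leaf ⟨57,[52,57,52],38,0⟩) (.leaf ⟨55,[53,55,53],19,0⟩)))))) (.node (.node (.node (.node (.node (.node (.leaf ⟨55,[55],14,1⟩) (.leaf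 ⟨53,[55,53,55],19,1⟩)) (.leaf ⟨54,[49,57,49,51,54,49,57,49],44,2⟩)) (.node (.node (.leaf ⟨59,[58,59,58,59,58,59,58],65,4⟩) (.leaf ⟨60,[51,55,51,55,56,59,58,56,58,59,60,59,58,56,58,59,60,59,58,56,58,59],75,12⟩)) (.leaf ⟨50,[60,50,60],69,1⟩))) (.node (.node (.node (.leaf ⟨51,[60,51,55,60,55],73,2⟩) (.leaf ⟨58,[59,58,59,58,59,58,59],65,3⟩)) (.leaf ⟨56,[61,58,61,56,57,58],87,6⟩)) (.node (.node (.leaf ⟨52,[57,52,57],38,3⟩) (.leaf ⟨54,[49,54,50,54,49,54,50],24,2⟩)) (.leaf ⟨56,[61,56,61],82,1⟩)))) (.node (.node (.node (.node (.leaf ⟨52,[55,52,55],17,3⟩) (.leaf ⟨57,[49,50,52,53,55,57,55],43,2⟩)) (.leaf ⟨51,[54,51,54],15,1⟩)) (.node (.node (.leaf ⟨55,[51,60,51,55,60],73,1⟩) (.leaf ⟨59,[60,57,61,60,59,60,61,58,50,59,55,58,59,60,54,58,59,60,61,54,50,57,58,49,55,58,60,59,58,49,60,55,58],88,31⟩)) (.leaf ⟨61,[51,61,51],79,0⟩)))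 (.node (.node (.node (.leaf ⟨59,[60,59,60,59,60,59,60],74,5⟩) (.leaf ⟨53,[55,57,55,57,49,50,52],43,6⟩)) (.leaf ⟨54,[56,54,56,51,52,53],31,6⟩)) (.node (.leaf ⟨49,[50,49,50],2,1⟩) (.leaf ⟨54,[53,54,53],18,2⟩))))) (.node (.node (.node (.node (.node (.leaf ⟨49,[60,49,60],68,3⟩) (.leaf ⟨59,[49,59,49],59,0⟩)) (.leaf ⟨51,[55,60,55,51,60],73,4⟩)) (.node (.node (.leaf ⟨60,[58,60,58],71,2⟩) (.leaf ⟨55,[49,58,55,58,51,54,50,54,55,58,50],57,2⟩)) (.leaf ⟨58,[51,52,53,58,54,57,54],52,4⟩))) (.node (.node (.node (.leaf ⟨49,[50,57,49,50,57],41,4⟩) (.leaf ⟨59,[60,59,60,59,60,59,60],74,7⟩)) (.leaf ⟨61,[50,61,50],78,2⟩)) (.node (.leaf ⟨51,[53,49,53,50],12,4⟩) (.leaf ⟨61,[56,61,56],82,0⟩)))) (.node (.node (.node (.node (.leaf ⟨53,[54,53,54],18,3⟩) (.leaf ⟨49,[50,55,49,50,55],21,1⟩)) (.leaf ⟨58,[50,58,50,58,50],50,2⟩)) (.node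 (.node (.leaf ⟨49,[58,49,58,49,58],49,5⟩) (.leaf ⟨58,[59,58,59,58,59,58,59],65,7⟩)) (.leaf ⟨58,[60,58,60],71,1⟩))) (.node (.node (.node (.leaf ⟨52,[58,55,49,58,51,58,49,55,58],56,9⟩) (.leaf ⟨58,[55,58,49,50,58,55,56,58,56],55,5⟩)) (.leaf ⟨54,[49,55,49,54,49,55,49],23,6⟩)) (.node (.leaf ⟨54,[55,50,55,56,55,56,50,52],33,5⟩) (.leaf ⟨60,[49,60,49],68,0⟩)))))))))
noncomputable def tc0 : TCL := ⟨[49,50,51,52,53,54,55,56,57,58,59,60,61], [49,50,51,52,53,54,55,56,57,58,59,60], 2300, 36, 0x1ffff, 17, 0x1ff,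
  fun a x => look 0xfffffffff (nth tc0T 0 a) x, fun x => look 0xfffffffff tc0d x, tc0r⟩
noncomputable def tc1T : List ℕ := [0,0,0,0,0,0,0,0,0,0,0,0,0,0,0,0,0,0,0,0,0,0,0,0,0,0,0,0,0,0,0,0,0,0,0,0,0,0,0,0,0,0,0,0,0,0,0,0,0,tc1t49,tc1t50,tc1t51,tc1t52,tc1t53,tc1t54,tc1t55,tc1t56,tc1t57,tc1t58,tc1t59,tc1t60]
noncomputable def tc1r : Tr Rule := (.node (.node (.node (.node (.node (.node (.node (.node (.node (.leaf ⟨60,[60],67,1⟩) (.leaf ⟨59,[60,59,60,59,60,59,60],74,7⟩)) (.leaf ⟨55,[54,55,54],20,3⟩)) (.node (.leaf ⟨50,[56,58,56,49,50,58,49],51,6⟩) (.leaf ⟨60,[56,60,56],70,2⟩))) (.node (.node (.leaf ⟨49,[60,49,60],68,3⟩) (.leaf ⟨49,[56,49,51,55,51,55,56,49,56],34,3⟩)) (.node (.leaf ⟨51,[57,51,57],37,3⟩) (.leaf ⟨59,[54,58,54,59,54,58,54,59,54,58,54],66,11⟩)))) (.node (.node (.node (.node (.leaf ⟨53,[59,53,59],60,3⟩)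 (.leaf ⟨59,[58,56,58,59,60,51,55,51,55,56,59,58,56,58,59,60,59,58,56,58,59,60],75,7⟩)) (.leaf ⟨55,[58,52,58,55,49,58,51,58,49],56,7⟩)) (.node (.leaf ⟨51,[52,51,52],8,3⟩) (.leaf ⟨51,[52,53,58,54,57,54,58],52,5⟩))) (.node (.node (.leaf ⟨52,[53,56,51,56],30,3⟩) (.leaf ⟨55,[53,55,53],19,2⟩)) (.node (.leaf ⟨53,[51,53,51],10,0⟩) (.leaf ⟨49,[58,56,51,56,58,49,51,57],53,8⟩))))) (.node (.node (.node (.node (.node (.leaf ⟨57,[57],36,1⟩) (.leaf ⟨54,[58,54,49,54,51,58,54,51,49],54,0⟩)) (.leaf ⟨49,[58,49,58,49,58],49,3⟩)) (.node (.leaf ⟨52,[53,52,53],11,1⟩) (.leaf ⟨58,[49,58,49,58,49],49,0⟩))) (.node (.node (.leaf ⟨49,[51,49,51],4,1⟩) (.leaf ⟨50,[56,55,50,56,55,50,56,55],35,3⟩)) (.node (.leaf ⟨51,[60,51,55,60,55],73,2⟩) (.leaf ⟨59,[58,59,58,59,58,59,58],65,2⟩)))) (.node (.node (.node (.node (.leaf ⟨53,[54,53,54],18,3⟩)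 (.leaf ⟨58,[59,60,59,58,56,58,59,60,59,58,56,58,59,60,51,55,51,55,56,59,58,56],75,21⟩)) (.leaf ⟨57,[56,57,56],40,0⟩)) (.node (.leaf ⟨53,[50,51,53,49],12,2⟩) (.leaf ⟨59,[54,58,54,59,54,58,54,59,54,58,54],66,7⟩))) (.node (.node (.leaf ⟨50,[57,49,50,57,49],41,5⟩) (.leaf ⟨59,[49,51,59,50],63,2⟩)) (.node (.leaf ⟨49,[54,51,58,54,51,49,54,58,54],54,3⟩) (.leaf ⟨55,[49,55,51,55,49,55,51],26,2⟩)))))) (.node (.node (.node (.node (.node (.node (.leaf ⟨50,[50],1,1⟩) (.leaf ⟨54,[49,54,49,54,49,54,49],22,4⟩)) (.leaf ⟨60,[50,60,50],69,2⟩)) (.node (.leaf ⟨49,[58,49,58,49,58],49,5⟩) (.leaf ⟨51,[54,51,54],15,1⟩))) (.node (.node (.leaf ⟨58,[49,58,49,58,49],49,4⟩) (.leaf ⟨57,[49,56,57,49,57,49,56,49],45,0⟩)) (.node (.leaf ⟨57,[49,58,56,51,56,58,49,51],53,7⟩) (.leaf ⟨59,[60,59,60,59,60,59,60],74,3⟩)))) (.node (.node (.node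 (.node (.leaf ⟨49,[52,50,52],7,1⟩) (.leaf ⟨56,[59,58,56,58,59,60,59,58,56,58,59,60,59,58,56,58,59,60,51,55,51,55],75,17⟩)) (.leaf ⟨50,[51,50,51],5,1⟩)) (.node (.leaf ⟨57,[52,57,52],38,2⟩) (.leaf ⟨49,[50,55,54,49,50,51,54,55,51],27,3⟩))) (.node (.node (.leaf ⟨58,[53,58,53,57],48,0⟩) (.leaf ⟨56,[57,56,57],40,1⟩)) (.node (.leaf ⟨51,[52,51,52],8,1⟩) (.leaf ⟨50,[58,50,58,50,58],50,1⟩))))) (.node (.node (.node (.node (.node (.leaf ⟨49,[59,49,59],59,3⟩) (.leaf ⟨58,[59,60,51,55,51,55,56,59,58,56,58,59,60,59,58,56,58,59,60,59,58,56],75,10⟩)) (.leaf ⟨53,[56,53,56],29,1⟩)) (.node (.leaf ⟨52,[50,52,49],7,2⟩) (.leaf ⟨55,[52,55,52],17,0⟩))) (.node (.node (.leaf ⟨56,[57,56,57],40,3⟩) (.leaf ⟨60,[49,60,49],68,0⟩)) (.node (.leaf ⟨54,[55,50,55,56,55,56,50,52],33,5⟩) (.leaf ⟨50,[55,56,55,56,50,52,54,55],33,7⟩)))) (.node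 (.node (.node (.node (.leaf ⟨51,[59,50,59,49],63,4⟩) (.leaf ⟨60,[59,58,56,58,59,60,59,58,56,58,59,60,51,55,51,55,56,59,58,56,58,59],75,0⟩)) (.leaf ⟨60,[51,55,60,55,51],73,3⟩)) (.node (.leaf ⟨54,[57,51,52,53,54,57],42,1⟩) (.leaf ⟨59,[50,54,55,50,54,59,54],64,2⟩))) (.node (.node (.leaf ⟨57,[56,57,56],40,2⟩) (.leaf ⟨54,[55,50,54,59,54,59,50],64,4⟩)) (.node (.leaf ⟨49,[54,50,54,49,54,50,54],24,7⟩) (.leaf ⟨56,[49,50,58,49,50,56,58],51,1⟩))))))) (.node (.node (.node (.node (.node (.node (.node (.leaf ⟨58,[58],46,1⟩) (.leaf ⟨55,[49,55,51,55,49,55,51],26,6⟩)) (.leaf ⟨60,[58,60,58],71,2⟩)) (.node (.leaf ⟨51,[49,51,49],4,2⟩) (.leaf ⟨58,[60,58,60],71,1⟩))) (.node (.node (.leaf ⟨49,[50,49,50],2,3⟩) (.leaf ⟨56,[49,51,55,51,55,56,49,56,49],34,4⟩)) (.node (.leaf ⟨54,[56,51,52,53,54,56],31,1⟩) (.leaf ⟨55,[49,58,55,58,51,54,50,54,55,58,50],57,2⟩))))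 (.node (.node (.node (.node (.leaf ⟨49,[51,49,51],4,3⟩) (.leaf ⟨59,[58,56,58,59,60,59,58,56,58,59,60,59,58,56,58,59,60,51,55,51,55,56],75,18⟩)) (.leaf ⟨51,[57,49,58,56,51,56,58,49],53,6⟩)) (.node (.leaf ⟨49,[50,49,50],2,1⟩) (.leaf ⟨58,[54,49,54,51,58,54,51,49,54],54,1⟩))) (.node (.node (.leaf ⟨58,[60,58,60],71,3⟩) (.leaf ⟨53,[57,53,57],39,1⟩)) (.node (.leaf ⟨55,[57,55,57,49,50,52,53],43,7⟩) (.leaf ⟨57,[59,57,59],62,1⟩))))) (.node (.node (.node (.node (.node (.leaf ⟨53,[53],9,1⟩) (.leaf ⟨58,[56,58,59,60,51,55,51,55,56,59,58,56,58,59,60,59,58,56,58,59,60,59],75,8⟩)) (.leaf ⟨53,[49,53,50,51],12,0⟩)) (.node (.leaf ⟨51,[53,49,53,50],12,4⟩) (.leaf ⟨55,[49,50,55,49,50],21,3⟩))) (.node (.node (.leaf ⟨56,[60,56,60],70,3⟩) (.leaf ⟨49,[60,49,60],68,1⟩)) (.node (.leaf ⟨52,[55,52,55],17,1⟩) (.leaf ⟨49,[56,49,56,49,51,55,51,55,56],34,1⟩))))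 (.node (.node (.node (.node (.leaf ⟨57,[59,57,59],62,3⟩) (.leaf ⟨51,[55,56,59,58,56,58,59,60,59,58,56,58,59,60,59,58,56,58,59,60,51,55],75,15⟩)) (.leaf ⟨52,[51,52,51],8,0⟩)) (.node (.leaf ⟨52,[51,52,51],8,2⟩) (.leaf ⟨55,[54,55,54],20,1⟩))) (.node (.node (.leaf ⟨53,[56,51,56,52],30,4⟩) (.leaf ⟨54,[57,54,58,51,52,53,58],52,1⟩)) (.node (.leaf ⟨54,[49,55,49,54,49,55,49],23,6⟩) (.leaf ⟨56,[51,56,52,53],30,0⟩)))))) (.node (.node (.node (.node (.node (.node (.leaf ⟨55,[55],14,1⟩) (.leaf ⟨54,[49,54,50,54,49,54,50],24,6⟩)) (.leaf ⟨55,[58,49,50,58,55,56,58,56,58],55,6⟩)) (.node (.leaf ⟨59,[50,59,49,51],63,0⟩) (.leaf ⟨60,[49,60,49],68,2⟩))) (.node (.node (.leaf ⟨51,[50,51,50],5,2⟩) (.leaf ⟨58,[49,58,49,58,49],49,2⟩)) (.node (.leaf ⟨55,[60,55,51,60,51],73,5⟩) (.leaf ⟨59,[56,59,56],61,0⟩)))) (.node (.node (.node (.node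 (.leaf ⟨52,[54,52,54],16,3⟩) (.leaf ⟨56,[58,59,60,59,58,56,58,59,60,59,58,56,58,59,60,51,55,51,55,56,59,58],75,20⟩)) (.leaf ⟨58,[50,58,50,58,50],50,2⟩)) (.node (.leaf ⟨58,[56,58,55,58,49,50,58,55,56],55,3⟩) (.leaf ⟨56,[58,56,58,55,58,49,50,58,55],55,2⟩))) (.node (.node (.leaf ⟨58,[59,58,59,58,59,58,59],65,5⟩) (.leaf ⟨50,[58,50,58,50,58],50,5⟩)) (.node (.leaf ⟨53,[52,53,52],11,0⟩) (.leaf ⟨60,[55,51,60,51,55],73,0⟩))))) (.node (.node (.node (.node (.node (.leaf ⟨56,[59,56,59],61,3⟩) (.leaf ⟨59,[60,59,58,56,58,59,60,51,55,51,55,56,59,58,56,58,59,60,59,58,56,58],75,5⟩)) (.leaf ⟨54,[52,54,52],16,2⟩)) (.node (.leaf ⟨57,[54,58,51,52,53,58,54],52,2⟩) (.leaf ⟨52,[53,58,54,57,54,58,51],52,6⟩))) (.node (.node (.leaf ⟨50,[49,50,49],2,0⟩) (.leaf ⟨53,[55,53,55],19,1⟩)) (.node (.leaf ⟨55,[50,54,59,54,59,50,54],64,5⟩)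 (.leaf ⟨49,[55,51,55,49,55,51,55],26,7⟩)))) (.node (.node (.node (.leaf ⟨49,[51,59,50,59],63,3⟩) (.leaf ⟨58,[51,52,53,58,54,57,54],52,4⟩)) (.node (.leaf ⟨57,[55,57,49,50,52,53,55],43,0⟩) (.leaf ⟨59,[58,59,58,59,58,59,58],65,6⟩))) (.node (.node (.leaf ⟨53,[51,53,51],10,2⟩) (.leaf ⟨54,[52,54,52],16,0⟩)) (.node (.leaf ⟨55,[57,49,50,52,53,55,57],43,1⟩) (.leaf ⟨49,[54,50,54,49,54,50,54],24,3⟩)))))))) (.node (.node (.node (.node (.node (.node (.node (.node (.leaf ⟨59,[59],58,1⟩) (.leaf ⟨60,[59,60,59,60,59,60,59],74,4⟩)) (.leaf ⟨60,[50,60,50],69,0⟩)) (.node (.leaf ⟨50,[51,50,51],5,3⟩) (.leaf ⟨54,[51,54,51],15,2⟩))) (.node (.node (.leaf ⟨50,[59,49,51,59],63,1⟩) (.leaf ⟨49,[53,50,51,53],12,1⟩)) (.node (.leaf ⟨58,[49,50,56,58,56,49,50],51,4⟩) (.leaf ⟨54,[59,54,58,54,59,54,58,54,59,54,58],66,6⟩)))) (.node (.node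 (.node (.node (.leaf ⟨52,[55,52,55],17,3⟩) (.leaf ⟨55,[51,55,56,59,58,56,58,59,60,59,58,56,58,59,60,59,58,56,58,59,60,51],75,14⟩)) (.leaf ⟨54,[57,54,57,51,52,53],42,6⟩)) (.node (.leaf ⟨50,[49,50,49],2,2⟩) (.leaf ⟨58,[54,51,49,54,58,54,49,54,51],54,6⟩))) (.node (.node (.leaf ⟨58,[56,49,50,58,49,50,56],51,0⟩) (.leaf ⟨52,[57,52,57],38,1⟩)) (.node (.leaf ⟨57,[51,57,51],37,0⟩) (.leaf ⟨60,[56,60,56],70,0⟩))))) (.node (.node (.node (.node (.node (.leaf ⟨51,[51],3,1⟩) (.leaf ⟨60,[51,55,51,55,56,59,58,56,58,59,60,59,58,56,58,59,60,59,58,56,58,59],75,12⟩)) (.leaf ⟨51,[53,51,53],10,1⟩)) (.node (.leaf ⟨56,[53,56,53],29,0⟩) (.leaf ⟨59,[53,59,53],60,0⟩))) (.node (.node (.leaf ⟨52,[58,55,49,58,51,58,49,55,58],56,9⟩) (.leaf ⟨56,[60,56,60],70,1⟩)) (.node (.leaf ⟨55,[51,60,51,55,60],73,1⟩) (.leaf ⟨55,[49,51,55,60,51,60,50],72,4⟩))))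 (.node (.node (.node (.node (.leaf ⟨53,[56,53,56],29,3⟩) (.leaf ⟨56,[58,59,60,59,58,56,58,59,60,51,55,51,55,56,59,58,56,58,59,60,59,58],75,3⟩)) (.leaf ⟨51,[52,56,49,50,56,49,50],32,6⟩)) (.node (.leaf ⟨52,[49,52,50],7,0⟩) (.leaf ⟨54,[59,54,59,50,54,55,50],64,7⟩))) (.node (.node (.leaf ⟨52,[56,49,50,56,49,50,51],32,7⟩) (.leaf ⟨59,[53,59,53],60,2⟩)) (.node (.leaf ⟨49,[54,49,54,49,54,49,54],22,5⟩) (.leaf ⟨53,[59,53,59],60,1⟩)))))) (.node (.node (.node (.node (.node (.node (.leaf ⟨54,[54],13,1⟩) (.leaf ⟨56,[49,50,56,49,50,51,52],32,0⟩)) (.leaf ⟨52,[53,52,53],11,3⟩)) (.node (.leaf ⟨50,[55,49,50,55,49],21,5⟩) (.leaf ⟨54,[55,54,55],20,0⟩))) (.node (.node (.leaf ⟨50,[60,50,60],69,3⟩) (.leaf ⟨57,[49,50,57,49,50],41,3⟩)) (.node (.leaf ⟨51,[57,51,57],37,1⟩) (.leaf ⟨59,[58,59,58,59,58,59,58],65,4⟩)))) (.node (.node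 (.node (.node (.leaf ⟨51,[54,51,54],15,3⟩) (.leaf ⟨58,[59,60,59,58,56,58,59,60,51,55,51,55,56,59,58,56,58,59,60,59,58,56],75,4⟩)) (.leaf ⟨58,[53,57,58,53],48,2⟩)) (.node (.leaf ⟨56,[58,55,58,49,50,58,55,56,58],55,4⟩) (.leaf ⟨55,[49,50,55,49,50],21,0⟩))) (.node (.node (.leaf ⟨57,[53,57,53],39,0⟩) (.leaf ⟨57,[58,57,58],47,1⟩)) (.node (.leaf ⟨57,[52,57,52],38,0⟩) (.leaf ⟨57,[49,50,57,49,50],41,0⟩))))) (.node (.node (.node (.node (.node (.leaf ⟨54,[55,54,55],20,2⟩) (.leaf ⟨56,[58,59,60,51,55,51,55,56,59,58,56,58,59,60,59,58,56,58,59,60,59,58],75,9⟩)) (.leaf ⟨54,[53,54,53],18,2⟩)) (.node (.leaf ⟨51,[56,52,53,56],30,1⟩) (.leaf ⟨56,[59,56,59],61,1⟩))) (.node (.node (.leaf ⟨49,[50,58,49,50,56,58,56],51,2⟩) (.leaf ⟨55,[52,55,52],17,2⟩)) (.node (.leaf ⟨54,[59,50,54,55,50,54,59],64,1⟩) (.leaf ⟨49,[50,55,49,50,55],21,1⟩))))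 (.node (.node (.node (.node (.leaf ⟨58,[50,58,50,58,50],50,4⟩) (.leaf ⟨49,[58,49,58,49,58],49,1⟩)) (.leaf ⟨57,[49,50,52,53,55,57,55],43,2⟩)) (.node (.leaf ⟨57,[54,57,51,52,53,54],42,0⟩) (.leaf ⟨59,[54,59,50,54,55,50,54],64,0⟩))) (.node (.node (.leaf ⟨53,[55,53,55],19,3⟩) (.leaf ⟨52,[54,55,50,55,56,55,56,50],33,4⟩)) (.node (.leaf ⟨57,[51,52,53,54,57,54],42,2⟩) (.leaf ⟨54,[49,54,50,54,49,54,50],24,2⟩))))))) (.node (.node (.node (.node (.node (.node (.node (.leaf ⟨49,[49],0,1⟩) (.leaf ⟨50,[54,55,50,54,59,54,59],64,3⟩)) (.leaf ⟨51,[50,51,50],5,0⟩)) (.node (.leaf ⟨50,[58,50,58,50,58],50,3⟩) (.leaf ⟨54,[53,54,53],18,0⟩))) (.node (.node (.leaf ⟨59,[49,59,49],59,0⟩) (.leaf ⟨56,[49,56,49,56,49,51,55,51,55],34,0⟩)) (.node (.leaf ⟨51,[58,49,55,58,52,58,55,49,58],56,4⟩) (.leaf ⟨59,[60,59,60,59,60,59,60],74,5⟩))))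 (.node (.node (.node (.node (.leaf ⟨50,[52,49,52],7,3⟩) (.leaf ⟨59,[60,51,55,51,55,56,59,58,56,58,59,60,59,58,56,58,59,60,59,58,56,58],75,11⟩)) (.leaf ⟨57,[53,57,53],39,2⟩)) (.node (.leaf ⟨57,[51,57,51],37,2⟩) (.leaf ⟨49,[54,58,54,49,54,51,58,54,51],54,9⟩))) (.node (.node (.leaf ⟨58,[57,58,57],47,2⟩) (.leaf ⟨49,[59,49,59],59,1⟩)) (.node (.leaf ⟨52,[53,54,57,54,57,51],42,4⟩) (.leaf ⟨60,[58,60,58],71,0⟩))))) (.node (.node (.node (.node (.node (.leaf ⟨52,[52],6,1⟩) (.leaf ⟨60,[59,58,56,58,59,60,51,55,51,55,56,59,58,56,58,59,60,59,58,56,58,59],75,6⟩)) (.leaf ⟨56,[52,53,56,51],30,2⟩)) (.node (.leaf ⟨50,[51,53,49,53],12,3⟩) (.leaf ⟨55,[53,55,53],19,0⟩))) (.node (.node (.leaf ⟨56,[53,56,53],29,2⟩) (.leaf ⟨50,[60,50,60],69,1⟩)) (.node (.leaf ⟨50,[55,49,51,55,60,51,60],72,3⟩) (.leaf ⟨49,[56,57,49,57,49,56,49,57],45,1⟩))))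 (.node (.node (.node (.node (.leaf ⟨57,[58,57,58],47,3⟩) (.leaf ⟨58,[56,58,59,60,59,58,56,58,59,60,51,55,51,55,56,59,58,56,58,59,60,59],75,2⟩)) (.leaf ⟨55,[56,55,56,50,52,54,55,50],33,8⟩)) (.node (.leaf ⟨54,[56,54,56,51,52,53],31,6⟩) (.leaf ⟨59,[57,59,57],62,0⟩))) (.node (.node (.leaf ⟨57,[58,53,58,53],48,4⟩) (.leaf ⟨54,[58,51,52,53,58,54,57],52,3⟩)) (.node (.leaf ⟨50,[54,49,54,50,54,49,54],24,5⟩) (.leaf ⟨58,[59,58,59,58,59,58,59],65,3⟩)))))) (.node (.node (.node (.node (.node (.node (.leaf ⟨56,[56],28,1⟩) (.leaf ⟨55,[56,58,56,58,55,58,49,50,58],55,1⟩)) (.leaf ⟨58,[57,58,57],47,0⟩)) (.node (.leaf ⟨51,[53,51,53],10,3⟩) (.leaf ⟨59,[49,59,49],59,2⟩))) (.node (.node (.leaf ⟨49,[50,57,49,50,57],41,4⟩) (.leaf ⟨54,[49,57,49,54,49,57,49,51],44,7⟩)) (.node (.leaf ⟨51,[55,60,55,51,60],73,4⟩) (.leaf ⟨50,[54,59,54,59,50,54,55],64,6⟩))))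 (.node (.node (.node (.node (.leaf ⟨53,[57,53,57],39,3⟩) (.leaf ⟨58,[56,58,59,60,59,58,56,58,59,60,59,58,56,58,59,60,51,55,51,55,56,59],75,19⟩)) (.leaf ⟨56,[51,52,53,54,56,54],31,2⟩)) (.node (.leaf ⟨51,[56,58,49,51,57,49,58,56],53,2⟩) (.leaf ⟨54,[49,57,49,51,54,49,57,49],44,2⟩))) (.node (.node (.leaf ⟨51,[60,50,55,49,51,55,60],72,1⟩) (.leaf ⟨50,[57,49,50,57,49],41,2⟩)) (.node (.leaf ⟨56,[54,56,51,52,53,54],31,0⟩) (.leaf ⟨54,[49,55,49,54,49,55,49],23,2⟩))))) (.node (.node (.node (.node (.node (.leaf ⟨54,[51,54,51],15,0⟩) (.leaf ⟨51,[55,51,55,56,59,58,56,58,59,60,59,58,56,58,59,60,59,58,56,58,59,60],75,13⟩)) (.leaf ⟨49,[50,56,49,50,51,52,56],32,1⟩)) (.node (.leaf ⟨56,[58,56,49,50,58,49,50],51,7⟩) (.leaf ⟨52,[54,52,54],16,1⟩))) (.node (.node (.leaf ⟨51,[49,51,49],4,0⟩) (.leaf ⟨59,[56,59,56],61,2⟩)) (.node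 (.leaf ⟨53,[52,53,52],11,2⟩) (.leaf ⟨60,[50,55,49,51,55,60,51],72,2⟩)))) (.node (.node (.node (.leaf ⟨53,[57,58,53,58],48,3⟩) (.leaf ⟨50,[52,54,55,50,55,56,55,56],33,3⟩)) (.node (.leaf ⟨52,[57,52,57],38,3⟩) (.leaf ⟨59,[57,59,57],62,2⟩))) (.node (.node (.leaf ⟨53,[58,53,57,58],48,1⟩) (.leaf ⟨53,[54,53,54],18,1⟩)) (.node (.leaf ⟨49,[50,52,53,55,57,55,57],43,3⟩) (.leaf ⟨50,[55,49,50,55,49],21,2⟩)))))))))
noncomputable def tc1 : TCL := ⟨[49,50,51,52,53,54,55,56,57,58,59,60], [49,50,51,52,53,54,55,56,57,58,59], 891, 32, 0x7fff, 15, 0x1ff,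
  fun a x => look 0xffffffff (nth tc1T 0 a) x, fun x => look 0xffffffff tc1d x, tc1r⟩
noncomputable def tc2T : List ℕ := [0,0,0,0,0,0,0,0,0,0,0,0,0,0,0,0,0,0,0,0,0,0,0,0,0,0,0,0,0,0,0,0,0,0,0,0,0,0,0,0,0,0,0,0,0,0,0,0,0,tc2t49,tc2t50,tc2t51,tc2t52,tc2t53,tc2t54,tc2t55,tc2t56,tc2t57,tc2t58,tc2t59]
noncomputable def tc2r : Tr Rule := (.node (.node (.node (.node (.node (.node (.node (.node (.leaf ⟨59,[59],58,1⟩) (.leaf ⟨59,[50,54,55,50,54,59,54],64,2⟩)) (.leaf ⟨57,[58,57,58],47,1⟩)) (.node (.leaf ⟨49,[58,49,58,49,58],49,5⟩) (.leaf ⟨51,[57,51,57],37,3⟩))) (.node (.node (.leaf ⟨57,[56,57,56],40,2⟩) (.leaf ⟨51,[55,49,55,51,55,49,55],26,5⟩)) (.node (.leaf ⟨52,[51,52,51],8,2⟩) (.leaf ⟨53,[54,53,54],18,1⟩)))) (.node (.node (.node (.node (.leaf ⟨54,[55,54,55],20,2⟩) (.leaf ⟨59,[58,59,58,59,58,59,58],65,6⟩)) (.leaf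 ⟨57,[51,57,51],37,2⟩)) (.node (.leaf ⟨51,[54,51,54],15,3⟩) (.leaf ⟨58,[53,57,58,53],48,2⟩))) (.node (.node (.leaf ⟨51,[59,50,59,49],63,4⟩) (.leaf ⟨49,[53,50,51,53],12,1⟩)) (.node (.leaf ⟨57,[55,57,49,50,52,53,55],43,0⟩) (.leaf ⟨58,[59,58,59,58,59,58,59],65,5⟩))))) (.node (.node (.node (.node (.node (.leaf ⟨54,[54],13,1⟩) (.leaf ⟨56,[59,56,59],61,1⟩)) (.leaf ⟨49,[54,51,58,54,51,49,54,58,54],54,3⟩)) (.node (.leaf ⟨56,[58,56,49,50,58,49,50],51,7⟩) (.leaf ⟨54,[53,54,53],18,2⟩))) (.node (.node (.leaf ⟨53,[56,53,56],29,3⟩) (.leaf ⟨57,[49,50,52,53,55,57,55],43,2⟩)) (.node (.leaf ⟨51,[52,51,52],8,3⟩) (.leaf ⟨55,[49,58,55,58,51,54,50,54,55,58,50],57,2⟩)))) (.node (.node (.node (.leaf ⟨53,[59,53,59],60,3⟩) (.leaf ⟨55,[57,49,50,52,53,55,57],43,1⟩)) (.node (.leaf ⟨52,[49,52,50],7,0⟩) (.leaf ⟨56,[49,50,58,49,50,56,58],51,1⟩)))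 (.node (.node (.leaf ⟨50,[56,58,56,49,50,58,49],51,6⟩) (.leaf ⟨56,[49,56,49,56,49,51,55,51,55],34,0⟩)) (.node (.leaf ⟨54,[56,51,52,53,54,56],31,1⟩) (.leaf ⟨54,[59,54,59,50,54,55,50],64,7⟩)))))) (.node (.node (.node (.node (.node (.node (.leaf ⟨49,[49],0,1⟩) (.leaf ⟨59,[56,59,56],61,2⟩)) (.leaf ⟨54,[59,50,54,55,50,54,59],64,1⟩)) (.node (.leaf ⟨51,[53,49,53,50],12,4⟩) (.leaf ⟨50,[49,50,49],2,2⟩))) (.node (.node (.leaf ⟨53,[54,53,54],18,3⟩) (.leaf ⟨55,[58,49,50,58,55,56,58,56,58],55,6⟩)) (.node (.leaf ⟨57,[58,53,58,53],48,4⟩) (.leaf ⟨58,[54,51,49,54,58,54,49,54,51],54,6⟩)))) (.node (.node (.node (.node (.leaf ⟨49,[59,49,59],59,3⟩) (.leaf ⟨58,[54,49,54,51,58,54,51,49,54],54,1⟩)) (.leaf ⟨49,[54,50,54,49,54,50,54],24,7⟩)) (.node (.leaf ⟨53,[53],9,1⟩) (.leaf ⟨49,[50,57,49,50,57],41,4⟩))) (.node (.node (.leaf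 ⟨58,[50,58,50,58,50],50,4⟩) (.leaf ⟨52,[56,49,50,56,49,50,51],32,7⟩)) (.node (.leaf ⟨52,[57,52,57],38,3⟩) (.leaf ⟨59,[54,58,54,59,54,58,54,59,54,58,54],66,11⟩))))) (.node (.node (.node (.node (.node (.leaf ⟨56,[56],28,1⟩) (.leaf ⟨54,[52,54,52],16,2⟩)) (.leaf ⟨49,[54,49,54,49,54,49,54],22,5⟩)) (.node (.leaf ⟨52,[58,55,49,58,51,58,49,55,58],56,9⟩) (.leaf ⟨51,[54,51,54],15,1⟩))) (.node (.node (.leaf ⟨52,[53,56,51,56],30,3⟩) (.leaf ⟨49,[56,49,51,55,51,55,56,49,56],34,3⟩)) (.node (.leaf ⟨54,[57,51,52,53,54,57],42,1⟩) (.leaf ⟨55,[50,56,55,50,56,55,50,56],35,8⟩)))) (.node (.node (.node (.leaf ⟨57,[59,57,59],62,3⟩) (.leaf ⟨55,[54,55,54],20,3⟩)) (.node (.leaf ⟨52,[55,52,55],17,3⟩) (.leaf ⟨52,[54,55,50,55,56,55,56,50],33,4⟩))) (.node (.node (.leaf ⟨51,[49,51,49],4,2⟩) (.leaf ⟨50,[56,55,50,56,55,50,56,55],35,3⟩))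 (.node (.leaf ⟨51,[58,49,55,58,52,58,55,49,58],56,4⟩) (.leaf ⟨55,[54,55,54],20,1⟩))))))) (.node (.node (.node (.node (.node (.node (.node (.leaf ⟨58,[58],46,1⟩) (.leaf ⟨59,[53,59,53],60,2⟩)) (.leaf ⟨51,[57,51,57],37,1⟩)) (.node (.leaf ⟨50,[55,49,50,55,49],21,5⟩) (.leaf ⟨49,[58,55,58,51,54,50,54,55,58,50,55],57,3⟩))) (.node (.node (.leaf ⟨53,[58,53,57,58],48,1⟩) (.leaf ⟨52,[53,52,53],11,3⟩)) (.node (.leaf ⟨51,[56,52,53,56],30,1⟩) (.leaf ⟨56,[53,56,53],29,2⟩)))) (.node (.node (.node (.node (.leaf ⟨54,[51,54,51],15,0⟩) (.leaf ⟨59,[57,59,57],62,2⟩)) (.leaf ⟨50,[54,49,54,50,54,49,54],24,5⟩)) (.node (.leaf ⟨53,[50,51,53,49],12,2⟩) (.leaf ⟨58,[57,58,57],47,2⟩))) (.node (.node (.leaf ⟨50,[59,49,51,59],63,1⟩) (.leaf ⟨50,[57,49,50,57,49],41,5⟩)) (.node (.leaf ⟨57,[57],36,1⟩) (.leaf ⟨59,[54,58,54,59,54,58,54,59,54,58,54],66,7⟩)))))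 (.node (.node (.node (.node (.node (.leaf ⟨55,[55],14,1⟩) (.leaf ⟨51,[49,51,49],4,0⟩)) (.leaf ⟨50,[52,49,52],7,3⟩)) (.node (.leaf ⟨51,[56,58,49,51,57,49,58,56],53,2⟩) (.leaf ⟨52,[53,52,53],11,1⟩))) (.node (.node (.leaf ⟨53,[51,53,51],10,2⟩) (.leaf ⟨50,[52,54,55,50,55,56,55,56],33,3⟩)) (.node (.leaf ⟨54,[56,54,56,51,52,53],31,6⟩) (.leaf ⟨55,[57,55,57,49,50,52,53],43,7⟩)))) (.node (.node (.node (.leaf ⟨56,[59,56,59],61,3⟩) (.leaf ⟨49,[50,52,53,55,57,55,57],43,3⟩)) (.node (.leaf ⟨52,[54,52,54],16,3⟩) (.leaf ⟨49,[58,49,58,49,58],49,3⟩))) (.node (.node (.leaf ⟨49,[50,58,49,50,56,58,56],51,2⟩) (.leaf ⟨54,[55,50,55,56,55,56,50,52],33,5⟩)) (.node (.leaf ⟨56,[58,55,58,49,50,58,55,56,58],55,4⟩) (.leaf ⟨54,[51,54,51],15,2⟩)))))) (.node (.node (.node (.node (.node (.node (.leaf ⟨50,[50],1,1⟩) (.leaf ⟨59,[49,59,49],59,2⟩))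 (.leaf ⟨55,[50,54,59,54,59,50,54],64,5⟩)) (.node (.leaf ⟨58,[56,49,50,58,49,50,56],51,0⟩) (.leaf ⟨55,[53,55,53],19,0⟩))) (.node (.node (.leaf ⟨53,[55,53,55],19,3⟩) (.leaf ⟨55,[56,55,56,50,52,54,55,50],33,8⟩)) (.node (.leaf ⟨51,[53,51,53],10,3⟩) (.leaf ⟨58,[49,50,56,58,56,49,50],51,4⟩)))) (.node (.node (.node (.leaf ⟨58,[49,58,49,58,49],49,4⟩) (.leaf ⟨57,[51,52,53,54,57,54],42,2⟩)) (.node (.leaf ⟨52,[50,52,49],7,2⟩) (.leaf ⟨58,[49,58,49,58,49],49,0⟩))) (.node (.node (.leaf ⟨57,[54,58,51,52,53,58,54],52,2⟩) (.leaf ⟨56,[49,51,55,51,55,56,49,56,49],34,4⟩)) (.node (.leaf ⟨53,[57,53,57],39,3⟩) (.leaf ⟨54,[55,50,54,59,54,59,50],64,4⟩))))) (.node (.node (.node (.node (.node (.leaf ⟨51,[51],3,1⟩) (.leaf ⟨59,[54,59,50,54,55,50,54],64,0⟩)) (.leaf ⟨54,[49,55,49,54,49,55,49],23,6⟩)) (.node (.leaf ⟨51,[50,51,50],5,2⟩)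 (.leaf ⟨49,[51,49,51],4,3⟩))) (.node (.node (.leaf ⟨52,[52],6,1⟩) (.leaf ⟨49,[52,50,52],7,1⟩)) (.node (.leaf ⟨57,[54,57,51,52,53,54],42,0⟩) (.leaf ⟨54,[57,54,57,51,52,53],42,6⟩)))) (.node (.node (.node (.leaf ⟨57,[58,57,58],47,3⟩) (.leaf ⟨50,[49,50,49],2,0⟩)) (.node (.leaf ⟨50,[51,50,51],5,3⟩) (.leaf ⟨54,[52,54,52],16,0⟩))) (.node (.node (.leaf ⟨50,[58,50,58,50,58],50,3⟩) (.leaf ⟨55,[49,55,49,55,49,55,49],25,0⟩)) (.node (.leaf ⟨58,[56,58,55,58,49,50,58,55,56],55,3⟩) (.leaf ⟨55,[52,55,52],17,2⟩))))))))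
noncomputable def tc2 : TCL := ⟨[49,50,51,52,53,54,55,56,57,58,59], [49,50,51,52,53,54,55,56,57,58], 42, 24, 0x3ff, 10, 0xff,
  fun a x => look 0xffffff (nth tc2T 0 a) x, fun x => look 0xffffff tc2d x, tc2r⟩
noncomputable def tc3T : List ℕ := [0,0,0,0,0,0,0,0,0,0,0,0,0,0,0,0,0,0,0,0,0,0,0,0,0,0,0,0,0,0,0,0,0,0,0,0,0,0,0,0,0,0,0,0,0,0,0,0,0,tc3t49,tc3t50,tc3t51,tc3t52,tc3t53,tc3t54,tc3t55,tc3t56,tc3t57,tc3t58]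
noncomputable def tc3r : Tr Rule := (.node (.node (.node (.node (.node (.node (.node (.leaf ⟨58,[58],46,1⟩) (.leaf ⟨50,[49,50,49],2,0⟩)) (.node (.leaf ⟨51,[54,51,54],15,3⟩) (.leaf ⟨52,[53,58,54,57,54,58,51],52,6⟩))) (.node (.node (.leaf ⟨52,[53,56,51,56],30,3⟩) (.leaf ⟨56,[50,52,54,55,50,55,56,55],33,2⟩)) (.node (.leaf ⟨57,[57],36,1⟩) (.leaf ⟨49,[51,49,51],4,3⟩)))) (.node (.node (.node (.leaf ⟨54,[51,54,51],15,0⟩) (.leaf ⟨57,[49,50,52,53,55,57,55],43,2⟩)) (.node (.leaf ⟨51,[56,52,53,56],30,1⟩) (.leaf ⟨58,[50,55,49,58,55,58,51,54,50,54,55],57,0⟩))) (.node (.node (.leaf ⟨50,[55,49,50,55,49],21,5⟩) (.leaf ⟨58,[54,51,49,54,58,54,49,54,51],54,6⟩)) (.node (.leaf ⟨57,[51,57,51],37,2⟩) (.leaf ⟨56,[53,56,53],29,2⟩))))) (.node (.node (.node (.node (.leaf ⟨55,[55],14,1⟩) (.leaf ⟨57,[56,57,56],40,0⟩)) (.node (.leaf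 ⟨52,[49,52,50],7,0⟩) (.leaf ⟨49,[58,55,58,51,54,50,54,55,58,50,55],57,3⟩))) (.node (.node (.leaf ⟨50,[56,58,56,49,50,58,49],51,6⟩) (.leaf ⟨57,[53,57,53],39,2⟩)) (.node (.leaf ⟨49,[54,51,58,54,51,49,54,58,54],54,3⟩) (.leaf ⟨58,[49,58,49,58,49],49,0⟩)))) (.node (.node (.node (.leaf ⟨53,[54,53,54],18,3⟩) (.leaf ⟨55,[50,56,55,50,56,55,50,56],35,8⟩)) (.node (.leaf ⟨54,[56,54,56,51,52,53],31,6⟩) (.leaf ⟨53,[56,51,56,52],30,4⟩))) (.node (.node (.leaf ⟨57,[54,58,51,52,53,58,54],52,2⟩) (.leaf ⟨58,[56,58,55,58,49,50,58,55,56],55,3⟩)) (.leaf ⟨57,[51,52,53,54,57,54],42,2⟩))))) (.node (.node (.node (.node (.node (.leaf ⟨50,[50],1,1⟩) (.leaf ⟨52,[53,52,53],11,3⟩)) (.node (.leaf ⟨53,[53],9,1⟩) (.leaf ⟨52,[58,55,49,58,51,58,49,55,58],56,9⟩))) (.node (.node (.leaf ⟨58,[49,58,49,58,49],49,4⟩) (.leaf ⟨54,[53,54,53],18,0⟩))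 (.node (.leaf ⟨53,[57,53,57],39,3⟩) (.leaf ⟨49,[58,49,58,49,58],49,3⟩)))) (.node (.node (.node (.leaf ⟨57,[56,57,56],40,2⟩) (.leaf ⟨49,[55,51,55,49,55,51,55],26,3⟩)) (.node (.leaf ⟨51,[53,51,53],10,3⟩) (.leaf ⟨58,[57,58,57],47,0⟩))) (.node (.node (.leaf ⟨56,[58,56,49,50,58,49,50],51,7⟩) (.leaf ⟨55,[58,49,50,58,55,56,58,56,58],55,6⟩)) (.node (.leaf ⟨49,[50,55,49,50,55],21,1⟩) (.leaf ⟨54,[57,54,57,51,52,53],42,6⟩))))) (.node (.node (.node (.node (.leaf ⟨51,[51],3,1⟩) (.leaf ⟨55,[52,55,52],17,0⟩)) (.node (.leaf ⟨52,[55,52,55],17,3⟩) (.leaf ⟨58,[55,58,51,54,50,54,55,58,50,55,49],57,4⟩))) (.node (.node (.leaf ⟨50,[58,50,58,50,58],50,3⟩) (.leaf ⟨58,[53,57,58,53],48,2⟩)) (.node (.leaf ⟨49,[54,49,54,49,54,49,54],22,5⟩) (.leaf ⟨55,[57,55,57,49,50,52,53],43,7⟩)))) (.node (.node (.node (.leaf ⟨53,[56,53,56],29,3⟩)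 (.leaf ⟨50,[51,53,49,53],12,3⟩)) (.node (.leaf ⟨57,[54,57,51,52,53,54],42,0⟩) (.leaf ⟨55,[53,55,53],19,2⟩))) (.node (.node (.leaf ⟨51,[49,51,49],4,2⟩) (.leaf ⟨51,[57,51,57],37,3⟩)) (.leaf ⟨49,[50,52,53,55,57,55,57],43,3⟩)))))) (.node (.node (.node (.node (.node (.node (.leaf ⟨49,[49],0,1⟩) (.leaf ⟨51,[55,49,55,51,55,49,55],26,5⟩)) (.node (.leaf ⟨53,[50,51,53,49],12,2⟩) (.leaf ⟨51,[58,49,55,58,52,58,55,49,58],56,4⟩))) (.node (.node (.leaf ⟨52,[52],6,1⟩) (.leaf ⟨56,[55,50,56,55,50,56,55,50],35,1⟩)) (.node (.leaf ⟨53,[58,53,57,58],48,1⟩) (.leaf ⟨50,[51,50,51],5,3⟩)))) (.node (.node (.node (.leaf ⟨57,[58,57,58],47,3⟩) (.leaf ⟨49,[55,49,55,49,55,49,55],25,7⟩)) (.node (.leaf ⟨57,[58,53,58,53],48,4⟩) (.leaf ⟨52,[57,52,57],38,1⟩))) (.node (.node (.leaf ⟨51,[53,49,53,50],12,4⟩) (.leaf ⟨58,[49,50,56,58,56,49,50],51,4⟩))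 (.node (.leaf ⟨50,[54,49,54,50,54,49,54],24,5⟩) (.leaf ⟨58,[53,58,53,57],48,0⟩))))) (.node (.node (.node (.node (.leaf ⟨56,[56],28,1⟩) (.leaf ⟨54,[52,54,52],16,2⟩)) (.node (.leaf ⟨52,[54,52,54],16,3⟩) (.leaf ⟨55,[58,51,54,50,54,55,58,50,55,49,58],57,5⟩))) (.node (.node (.leaf ⟨49,[50,58,49,50,56,58,56],51,2⟩) (.leaf ⟨49,[52,50,52],7,1⟩)) (.node (.leaf ⟨50,[52,49,52],7,3⟩) (.leaf ⟨56,[49,50,58,49,50,56,58],51,1⟩)))) (.node (.node (.node (.leaf ⟨53,[55,53,55],19,3⟩) (.leaf ⟨49,[55,49,54,49,55,49,54],23,3⟩)) (.node (.leaf ⟨54,[57,51,52,53,54,57],42,1⟩) (.leaf ⟨54,[53,54,53],18,2⟩))) (.node (.node (.leaf ⟨51,[56,58,49,51,57,49,58,56],53,2⟩) (.leaf ⟨54,[55,50,55,56,55,56,50,52],33,5⟩)) (.leaf ⟨55,[57,49,50,52,53,55,57],43,1⟩))))) (.node (.node (.node (.node (.node (.leaf ⟨54,[54],13,1⟩) (.leaf ⟨56,[55,56,50,52,54,55,50,55],33,0⟩))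 (.node (.leaf ⟨52,[50,52,49],7,2⟩) (.leaf ⟨51,[54,50,54,55,58,50,55,49,58,55,58],57,7⟩))) (.node (.node (.leaf ⟨58,[50,58,50,58,50],50,4⟩) (.leaf ⟨52,[54,52,54],16,1⟩)) (.node (.leaf ⟨54,[56,51,52,53,54,56],31,1⟩) (.leaf ⟨58,[49,58,49,58,49],49,2⟩)))) (.node (.node (.node (.leaf ⟨53,[57,58,53,58],48,3⟩) (.leaf ⟨50,[52,53,55,57,55,57,49],43,4⟩)) (.node (.leaf ⟨51,[52,51,52],8,3⟩) (.leaf ⟨53,[49,53,50,51],12,0⟩))) (.node (.node (.leaf ⟨58,[56,49,50,58,49,50,56],51,0⟩) (.leaf ⟨56,[58,55,58,49,50,58,55,56,58],55,4⟩)) (.leaf ⟨49,[54,50,54,49,54,50,54],24,7⟩)))) (.node (.node (.node (.node (.leaf ⟨54,[55,54,55],20,2⟩) (.leaf ⟨55,[54,55,54],20,1⟩)) (.node (.leaf ⟨52,[51,52,51],8,2⟩) (.leaf ⟨50,[55,49,58,55,58,51,54,50,54,55,58],57,1⟩))) (.node (.node (.leaf ⟨49,[58,49,58,49,58],49,5⟩) (.leaf ⟨56,[51,52,53,54,56,54],31,2⟩))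 (.node (.leaf ⟨54,[49,55,49,54,49,55,49],23,6⟩) (.leaf ⟨54,[49,54,51,58,54,51,49,54,58],54,2⟩)))) (.node (.node (.node (.leaf ⟨53,[51,53,51],10,2⟩) (.leaf ⟨49,[50,49,50],2,1⟩)) (.node (.leaf ⟨57,[55,57,49,50,52,53,55],43,0⟩) (.leaf ⟨51,[54,51,54],15,1⟩))) (.node (.node (.leaf ⟨51,[50,51,50],5,2⟩) (.leaf ⟨52,[57,52,57],38,3⟩)) (.leaf ⟨55,[54,55,54],20,3⟩)))))))
noncomputable def tc3 : TCL := ⟨[49,50,51,52,53,54,55,56,57,58], [49,50,51,52,53,54,55,56,57], 40, 24, 0x3ff, 10, 0x7f,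
  fun a x => look 0xffffff (nth tc3T 0 a) x, fun x => look 0xffffff tc3d x, tc3r⟩
noncomputable def tc4T : List ℕ := [0,0,0,0,0,0,0,0,0,0,0,0,0,0,0,0,0,0,0,0,0,0,0,0,0,0,0,0,0,0,0,0,0,0,0,0,0,0,0,0,0,0,0,0,0,0,0,0,0,tc4t49,tc4t50,tc4t51,tc4t52,tc4t53,tc4t54,tc4t55,tc4t56,tc4t57]
noncomputable def tc4r : Tr Rule := (.node (.node (.node (.node (.node (.leaf ⟨57,[57],36,1⟩) (.leaf ⟨55,[57,55,57,49,50,52,53],43,7⟩)) (.node (.leaf ⟨50,[57,49,50,57,49],41,5⟩) (.leaf ⟨57,[49,57,49,56,49,57,49,56],45,3⟩))) (.node (.node (.leaf ⟨51,[49,51,49],4,2⟩) (.leaf ⟨54,[56,54,56,51,52,53],31,6⟩)) (.leaf ⟨53,[56,53,56],29,3⟩))) (.node (.node (.node (.leaf ⟨56,[56],28,1⟩) (.leaf ⟨50,[52,49,52],7,3⟩)) (.leaf ⟨52,[50,52,49],7,2⟩)) (.node (.node (.leaf ⟨53,[57,53,57],39,3⟩) (.leaf ⟨55,[56,50,52,54,55,50,55,56],33,1⟩)) (.leaf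 ⟨52,[53,56,51,56],30,3⟩)))) (.node (.node (.node (.node (.leaf ⟨49,[49],0,1⟩) (.leaf ⟨49,[56,49,51,55,51,55,56,49,56],34,3⟩)) (.leaf ⟨50,[50],1,1⟩)) (.node (.node (.leaf ⟨52,[57,52,57],38,3⟩) (.leaf ⟨55,[50,55,56,55,56,50,52,54],33,6⟩)) (.leaf ⟨51,[56,52,53,56],30,1⟩))) (.node (.node (.node (.leaf ⟨51,[57,51,57],37,3⟩) (.leaf ⟨54,[49,57,49,54,49,57,49,51],44,7⟩)) (.leaf ⟨53,[50,51,53,49],12,2⟩)) (.node (.node (.leaf ⟨56,[57,56,57],40,3⟩) (.leaf ⟨57,[49,56,49,57,49,56,57,49],45,5⟩)) (.leaf ⟨54,[57,54,57,51,52,53],42,6⟩)))))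
noncomputable def tc4 : TCL := ⟨[49,50,51,52,53,54,55,56,57], [49,50,51,52,53,54,55,56], 4, 16, 0x7f, 7, 0x1f,
  fun a x => look 0xffff (nth tc4T 0 a) x, fun x => look 0xffff tc4d x, tc4r⟩
noncomputable def tc5T : List ℕ := [0,0,0,0,0,0,0,0,0,0,0,0,0,0,0,0,0,0,0,0,0,0,0,0,0,0,0,0,0,0,0,0,0,0,0,0,0,0,0,0,0,0,0,0,0,0,0,0,0,tc5t49,tc5t50,tc5t51,tc5t52,tc5t53,tc5t54,tc5t55,tc5t56]
noncomputable def tc5r : Tr Rule := (.node (.node (.node (.node (.leaf ⟨56,[56],28,1⟩) (.leaf ⟨50,[50],1,1⟩)) (.node (.leaf ⟨51,[56,52,53,56],30,1⟩) (.leaf ⟨56,[49,51,55,51,55,56,49,56,49],34,4⟩))) (.node (.node (.leaf ⟨53,[56,53,56],29,3⟩) (.leaf ⟨53,[50,51,53,49],12,2⟩)) (.node (.leaf ⟨54,[56,54,56,51,52,53],31,6⟩) (.leaf ⟨54,[55,50,55,56,55,56,50,52],33,5⟩)))) (.node (.node (.node (.leaf ⟨49,[49],0,1⟩) (.leaf ⟨52,[50,52,49],7,2⟩))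 (.node (.leaf ⟨51,[49,51,49],4,2⟩) (.leaf ⟨55,[50,56,55,50,56,55,50,56],35,5⟩))) (.node (.node (.leaf ⟨52,[53,56,51,56],30,3⟩) (.leaf ⟨55,[56,50,52,54,55,50,55,56],33,1⟩)) (.leaf ⟨50,[51,52,56,49,50,56,49],32,5⟩))))
noncomputable def tc5 : TCL := ⟨[49,50,51,52,53,54,55,56], [49,50,51,52,53,54,55], 3, 16, 0x3f, 6, 0x1f,
  fun a x => look 0xffff (nth tc5T 0 a) x, fun x => look 0xffff tc5d x, tc5r⟩
noncomputable def tc6T : List ℕ := [0,0,0,0,0,0,0,0,0,0,0,0,0,0,0,0,0,0,0,0,0,0,0,0,0,0,0,0,0,0,0,0,0,0,0,0,0,0,0,0,0,0,0,0,0,0,0,0,0,tc6t49,tc6t50,tc6t51,tc6t52,tc6t53,tc6t54,tc6t55]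
noncomputable def tc6r : Tr Rule := (.node (.node (.node (.node (.node (.node (.leaf ⟨54,[54],13,1⟩) (.leaf ⟨50,[54,49,54,50,54,49,54],24,5⟩)) (.node (.leaf ⟨53,[54,53,54],18,3⟩) (.leaf ⟨51,[54,55,51,49,50,55,54,49,50],27,9⟩))) (.node (.node (.leaf ⟨51,[49,51,49],4,2⟩) (.leaf ⟨51,[53,51,53],10,3⟩)) (.leaf ⟨50,[55,49,50,55,49],21,5⟩))) (.node (.node (.node (.leaf ⟨49,[50,49,50],2,3⟩) (.leaf ⟨50,[55,49,50,55,49],21,2⟩)) (.leaf ⟨53,[55,53,55],19,3⟩)) (.node (.node (.leaf ⟨52,[49,52,50],7,0⟩) (.leaf ⟨49,[50,55,54,49,50,51,54,55,51],27,3⟩)) (.leaf ⟨50,[52,49,52],7,3⟩)))) (.node (.node (.node (.node (.leaf ⟨50,[50],1,1⟩) (.leaf ⟨49,[54,50,54,49,54,50,54],24,7⟩)) (.node (.leaf ⟨53,[49,53,50,51],12,0⟩) (.leaf ⟨54,[55,51,49,50,55,54,49,50,51],27,0⟩))) (.node (.node (.leaf ⟨52,[54,52,54],16,3⟩) (.leaf ⟨51,[53,49,53,50],12,4⟩))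 (.leaf ⟨50,[51,50,51],5,3⟩))) (.node (.node (.node (.leaf ⟨55,[55],14,1⟩) (.leaf ⟨51,[55,49,55,51,55,49,55],26,5⟩)) (.leaf ⟨54,[55,54,55],20,2⟩)) (.node (.node (.leaf ⟨52,[55,52,55],17,3⟩) (.leaf ⟨51,[49,50,55,54,49,50,51,54,55],27,2⟩)) (.leaf ⟨49,[55,49,54,49,55,49,54],23,3⟩))))) (.node (.node (.node (.node (.node (.leaf ⟨49,[49],0,1⟩) (.leaf ⟨49,[54,50,54,49,54,50,54],24,3⟩)) (.node (.leaf ⟨53,[50,51,53,49],12,2⟩) (.leaf ⟨55,[51,49,50,55,54,49,50,51,54],27,1⟩))) (.node (.node (.leaf ⟨51,[50,51,50],5,2⟩) (.leaf ⟨51,[52,51,52],8,3⟩)) (.leaf ⟨49,[50,55,49,50,55],21,4⟩))) (.node (.node (.node (.leaf ⟨49,[51,49,51],4,3⟩) (.leaf ⟨49,[50,49,50],2,1⟩)) (.leaf ⟨53,[51,53,51],10,2⟩)) (.node (.node (.leaf ⟨52,[52],6,1⟩) (.leaf ⟨50,[51,54,55,51,49,50,55,54,49],27,8⟩)) (.leaf ⟨49,[54,49,55,49,54,49,55],23,5⟩))))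 (.node (.node (.node (.node (.leaf ⟨51,[51],3,1⟩) (.leaf ⟨49,[55,49,55,49,55,49,55],25,5⟩)) (.node (.leaf ⟨53,[53],9,1⟩) (.leaf ⟨53,[54,53,54],18,1⟩))) (.node (.node (.leaf ⟨52,[50,52,49],7,2⟩) (.leaf ⟨54,[49,50,51,54,55,51,49,50,55],27,6⟩)) (.leaf ⟨49,[54,49,54,49,54,49,54],22,5⟩))) (.node (.node (.node (.leaf ⟨51,[54,51,54],15,3⟩) (.leaf ⟨49,[55,51,55,49,55,51,55],26,3⟩)) (.leaf ⟨54,[51,54,51],15,2⟩)) (.node (.node (.leaf ⟨52,[51,52,51],8,2⟩) (.leaf ⟨55,[54,49,50,51,54,55,51,49,50],27,5⟩)) (.leaf ⟨50,[49,50,49],2,2⟩))))))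
noncomputable def tc6 : TCL := ⟨[49,50,51,52,53,54,55], [49,50,51,52,53], 32, 20, 0x3ff, 10, 0x3f,
  fun a x => look 0xfffff (nth tc6T 0 a) x, fun x => look 0xfffff tc6d x, tc6r⟩
noncomputable def tc7T : List ℕ := [0,0,0,0,0,0,0,0,0,0,0,0,0,0,0,0,0,0,0,0,0,0,0,0,0,0,0,0,0,0,0,0,0,0,0,0,0,0,0,0,0,0,0,0,0,0,0,0,0,tc7t49,tc7t50,tc7t51,tc7t52,tc7t53]
noncomputable def tc7r : Tr Rule := (.node (.node (.node (.leaf ⟨53,[53],9,1⟩) (.leaf ⟨49,[53,50,51,53],12,1⟩)) (.leaf ⟨52,[53,52,53],11,3⟩)) (.node (.leaf ⟨51,[53,51,53],10,3⟩) (.leaf ⟨50,[51,53,49,53],12,3⟩)))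
noncomputable def tc7 : TCL := ⟨[49,50,51,52,53], [49,50,51,52], 2, 16, 0x3f, 6, 0x7,
  fun a x => look 0xffff (nth tc7T 0 a) x, fun x => look 0xffff tc7d x, tc7r⟩
noncomputable def tc8T : List ℕ := [0,0,0,0,0,0,0,0,0,0,0,0,0,0,0,0,0,0,0,0,0,0,0,0,0,0,0,0,0,0,0,0,0,0,0,0,0,0,0,0,0,0,0,0,0,0,0,0,0,tc8t49,tc8t50,tc8t51,tc8t52]
noncomputable def tc8r : Tr Rule := (.node (.node (.leaf ⟨52,[52],6,1⟩) (.leaf ⟨49,[52,50,52],7,1⟩)) (.node (.leaf ⟨50,[52,49,52],7,3⟩) (.leaf ⟨51,[52,51,52],8,3⟩)))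
noncomputable def tc8 : TCL := ⟨[49,50,51,52], [49,50,51], 2, 16, 0x3f, 6, 0x7,
  fun a x => look 0xffff (nth tc8T 0 a) x, fun x => look 0xffff tc8d x, tc8r⟩
noncomputable def tc9T : List ℕ := [0,0,0,0,0,0,0,0,0,0,0,0,0,0,0,0,0,0,0,0,0,0,0,0,0,0,0,0,0,0,0,0,0,0,0,0,0,0,0,0,0,0,0,0,0,0,0,0,0,tc9t49,tc9t50,tc9t51]
noncomputable def tc9r : Tr Rule := (.node (.node (.leaf ⟨51,[51],3,1⟩) (.leaf ⟨50,[51,50,51],5,3⟩)) (.leaf ⟨49,[51,49,51],4,3⟩))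
noncomputable def tc9 : TCL := ⟨[49,50,51], [49,50], 2, 16, 0x3f, 6, 0x7,
  fun a x => look 0xffff (nth tc9T 0 a) x, fun x => look 0xffff tc9d x, tc9r⟩
noncomputable def tc10T : List ℕ := [0,0,0,0,0,0,0,0,0,0,0,0,0,0,0,0,0,0,0,0,0,0,0,0,0,0,0,0,0,0,0,0,0,0,0,0,0,0,0,0,0,0,0,0,0,0,0,0,0,tc10t49,tc10t50]
noncomputable def tc10r : Tr Rule := (.node (.leaf ⟨50,[50],1,1⟩) (.leaf ⟨49,[50,49,50],2,3⟩))
noncomputable def tc10 : TCL := ⟨[49,50], [49], 2, 16, 0x3f, 6, 0x7,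
  fun a x => look 0xffff (nth tc10T 0 a) x, fun x => look 0xffff tc10d x, tc10r⟩
noncomputable def tc11T : List ℕ := [0,0,0,0,0,0,0,0,0,0,0,0,0,0,0,0,0,0,0,0,0,0,0,0,0,0,0,0,0,0,0,0,0,0,0,0,0,0,0,0,0,0,0,0,0,0,0,0,0,tc11t49]
noncomputable def tc11r : Tr Rule := (.leaf ⟨49,[49],0,1⟩)
noncomputable def tc11 : TCL := ⟨[49], [], 2, 16, 0x3f, 6, 0x3,
  fun a x => look 0xffff (nth tc11T 0 a) x, fun x => look 0xffff tc11d x, tc11r⟩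
noncomputable def tc : List TCL := [tc0, tc1, tc2, tc3, tc4, tc5, tc6, tc7, tc8, tc9, tc10, tc11]
noncomputable def inW : List (List ℕ) := [[58,59,60,61,52,59,60,58,59,60,50,58,59,60,61,50,58,59,60,58,59,60,55,58,59,55,50,55,58,56,49,57,49,56,53,52,51,49],
  [59,58,59,60,61,58,59,60,61,59,51,60,58,59,60,61,50,59,58,59,60,49,58,59,60,56,55,50,58,59,56,55,49,58,56,54,49,55,53,52],
  [59,60,61,58,59,60,61,59,51,60,58,59,60,61,55,60,58,59,60,56,58,59,60,56,55,49,58,59,56,51,55,58,57,55,54,50,55,54,51]]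
noncomputable def tcS : List ℕ := [49,50,51,52,53,54,55,56,57,58,59,60,61]

end Cfsg.Agent.CG.Co2
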