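import Cfsg.Agent.Lib.Grp.Co2.ODefs

set_option autoImplicit false
set_option maxRecDepth 100000
set_option Elab.async false

namespace Cfsg.Agent.CG.Co2

theorem Oc230 : cc0.chk (appT tabs t98 0xffff) 1 255 = true := by decide +kernel
theorem Oc231 : cc1.chk (appT tabs t98 0xffff) 1 134 = true := by decide +kernel
theorem Oc232 : cc2.chk (appT tabs t98 0xffff) 1 13 = true := by decide +kernel
theorem Oc233 : cc3.chk (appT tabs t98 0xffff) 1 15 = true := by decide +kernel
theorem Oc234 : cc4.chk (appT tabs t98 0xffff) 1 3 = true := by decide +kernel
theorem Oc235 : cc5.chk (appT tabs t98 0xffff) 1 2 = true := by decide +kernel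
theorem Oc236 : cc6.chk (appT tabs t98 0xffff) 1 1 = true := by decide +kernel
theorem Oc237 : cc7.chk (appT tabs t98 0xffff) 1 1 = true := by decide +kernel
theorem Oc238 : cc8.chk (appT tabs t98 0xffff) 1 1 = true := by decide +kernel
theorem Oc239 : okcb 2300 16 (bases cc) = true := by decide +kernel
theorem Oc240 : headAll (appT tabs t98 0xffff) cc [] = true := by decide +kernel
theorem Oc241 : tp0.head tpR = true := by decide +kernel
theorem Oc242 : allL (fun a => tp0.chk a 0 tp0.N) tp0.S = true := by decide +kernel
theorem Oc243 : tp1.head tpR = true := by decide +kernel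
theorem Oc244 : allL (fun a => tp1.chk a 0 tp1.N) tp1.S = true := by decide +kernel
theorem Oc245 : tp2.head tpR = true := by decide +kernel
theorem Oc246 : allL (fun a => tp2.chk a 0 tp2.N) tp2.S = true := by decide +kernel
theorem Oc247 : tp3.head tpR = true := by decide +kernel
theorem Oc248 : allL (fun a => tp3.chk a 0 tp3.N) tp3.S = true := by decide +kernel
theorem Oc249 : tp4.head tpR = true := by decide +kernel
theorem Oc250 : allL (fun a => tp4.chk a 0 tp4.N) tp4.S = true := by decide +kernel
theorem Oc251 : tp5.head tpR = true := by decide +kernel
theorem Oc252 : allL (fun a => tp5.chk a 0 tp5.N) tp5.S = true := by decide +kernel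
theorem Oc253 : tcLink tp [] [62,63,64,65,66,67,68,69,70] = true := by decide +kernel
theorem Oc254 : pc0.chk (appT tabs t98 0xffff) 1 1023 = true := by decide +kernel
theorem Oc255 : pc1.chk (appT tabs t98 0xffff) 1 1 = true := by decide +kernel
theorem Oc256 : pc2.chk (appT tabs t98 0xffff) 1 3 = true := by decide +kernel
theorem Oc257 : pc3.chk (appT tabs t98 0xffff) 1 7 = true := by decide +kernel
theorem Oc258 : pc4.chk (appT tabs t98 0xffff) 1 1 = true := by decide +kernel
theorem Oc259 : pc5.chk (appT tabs t98 0xffff) 1 1 = true := by decide +kernel
theorem Oc260 : okcb 2300 16 (bases pc) = true := by decide +kernel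
theorem Oc261 : headAll (appT tabs t98 0xffff) pc [] = true := by decide +kernel
theorem Oc262 : allL (fun v => eqW (appT tabs t98 0xffff) bs v []) tpR = true := by decide +kernel
theorem Oc263 : trChk (appT tabs t98 0xffff) mc0 [mc1, mc2, mc3, mc4, mc5, mc6, mc7, mc8, mc9, mc10, mc11] bs (diagQ pQ) (diagQ pR) pF 0 2300 = true := by decide +kernel
theorem Oc264 : classChk (appT tabs t98 0xffff) bs 10 2 71 [17,9,10,14,19,23,18,25,32,34,34,36,38,42,41,43,46,47,48] pS pF pU = true := by decide +kernel
theorem Oc265 : powChk (appT tabs t98 0xffff) bs 8 23 aK nK = true := by decide +kernel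
theorem Oc266 : en.chk (appT tabs t98 0xffff) tst 0 4041 0 57556336510078569970208 = true := by decide +kernel
theorem Oc267 : en.chk (appT tabs t98 0xffff) tst 4041 4041 57556336510078569970208 121013370358167463008080 = true := by decide +kernel
theorem Oc268 : en.chk (appT tabs t98 0xffff) tst 8082 4041 121013370358167463008080 180343017306014112304768 = true := by decide +kernel
theorem Oc269 : en.chk (appT tabs t98 0xffff) tst 12123 4041 180343017306014112304768 235830323478469520932768 = true := by decide +kernel
theorem Oc270 : en.chk (appT tabs t98 0xffff) tst 16164 4041 235830323478469520932768 272725135777019252976176 = true := by decide +kernel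
theorem Oc271 : en.chk (appT tabs t98 0xffff) tst 20205 4041 272725135777019252976176 273018937019048740812144 = true := by decide +kernel
theorem Oc272 : en.chk (appT tabs t98 0xffff) tst 24246 4041 273018937019048740812144 283054519841597794822544 = true := by decide +kernel
theorem Oc273 : en.chk (appT tabs t98 0xffff) tst 28287 4041 283054519841597794822544 329687888851001831071088 = true := by decide +kernel
theorem Oc274 : en.chk (appT tabs t98 0xffff) tst 32328 4041 329687888851001831071088 386948199235282048939888 = true := by decide +kernel
theorem Oc275 : en.chk (appT tabs t98 0xffff) tst 36369 4041 386948199235282048939888 443903660988957874736000 = true := by decide +kernel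
theorem Oc276 : en.chk (appT tabs t98 0xffff) tst 40410 4041 443903660988957874736000 507657301861158175668400 = true := by decide +kernel
theorem Oc277 : en.chk (appT tabs t98 0xffff) tst 44451 4041 507657301861158175668400 557243176682048598327712 = true := by decide +kernel
theorem Oc278 : en.chk (appT tabs t98 0xffff) tst 48492 4041 557243176682048598327712 617159885855721647010720 = true := by decide +kernel
theorem Oc279 : en.chk (appT tabs t98 0xffff) tst 52533 4041 617159885855721647010720 673830346272811225462816 = true := by decide +kernel
theorem Oc280 : en.chk (appT tabs t98 0xffff) tst 56574 351 673830346272811225462816 677963623941975907009105 = true := by decide +kernel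
theorem Oc281 : commAll (appT tabs t98 0xffff) bs 10 cc = true := by decide +kernel
theorem Oc282 : relChk (appT tabs t98 0xffff) bs 8 10 rT = true := by decide +kernel

end Cfsg.Agent.CG.Co2
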