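import Cfsg.Agent.Lib.Grp.Co2.OD1
import Cfsg.Agent.Lib.Grp.Co2.Defs

set_option autoImplicit false
set_option maxRecDepth 100000
set_option Elab.async false

namespace Cfsg.Agent.CG.Co2

noncomputable def cc0 : Lvl := ⟨32, [72,73,74,75], 256,
  fun i => look 0xffff cc0c (Nat.mul 16 i), fun i => look 0xfff cc0p (Nat.mul 12 i),
  fun i => look 255 cc0l (Nat.mul 8 i), fun i => look 255 cc0i (Nat.mul 8 i), fun x => look 0xffff cc0q x, 7⟩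
noncomputable def cc1 : Lvl := ⟨9008, [76,77,78,79], 135,
  fun i => look 0xffff cc1c (Nat.mul 16 i), fun i => look 0xff cc1p (Nat.mul 8 i),
  fun i => look 255 cc1l (Nat.mul 8 i), fun i => look 255 cc1i (Nat.mul 8 i), fun x => look 0xffff cc1q x, 6⟩
noncomputable def cc2 : Lvl := ⟨18208, [80,81,82,83], 14,
  fun i => look 0xffff cc2c (Nat.mul 16 i), fun i => look 0xf cc2p (Nat.mul 4 i),
  fun i => look 255 cc2l (Nat.mul 8 i), fun i => look 255 cc2i (Nat.mul 8 i), fun x => look 0xffff cc2q x, 3⟩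
noncomputable def cc3 : Lvl := ⟨18064, [84,85,86,87], 16,
  fun i => look 0xffff cc3c (Nat.mul 16 i), fun i => look 0xff cc3p (Nat.mul 8 i),
  fun i => look 255 cc3l (Nat.mul 8 i), fun i => look 255 cc3i (Nat.mul 8 i), fun x => look 0xffff cc3q x, 3⟩
noncomputable def cc4 : Lvl := ⟨17744, [88,89], 4,
  fun i => look 0xffff cc4c (Nat.mul 16 i), fun i => look 0xf cc4p (Nat.mul 4 i),
  fun i => look 255 cc4l (Nat.mul 8 i), fun i => look 255 cc4i (Nat.mul 8 i), fun x => look 0xffff cc4q x, 2⟩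
noncomputable def cc5 : Lvl := ⟨18144, [90,91], 3,
  fun i => look 0xffff cc5c (Nat.mul 16 i), fun i => look 0xf cc5p (Nat.mul 4 i),
  fun i => look 255 cc5l (Nat.mul 8 i), fun i => look 255 cc5i (Nat.mul 8 i), fun x => look 0xffff cc5q x, 1⟩
noncomputable def cc6 : Lvl := ⟨2704, [92,93], 2,
  fun i => look 0xffff cc6c (Nat.mul 16 i), fun i => look 0xf cc6p (Nat.mul 4 i),
  fun i => look 255 cc6l (Nat.mul 8 i), fun i => look 255 cc6i (Nat.mul 8 i), fun x => look 0xffff cc6q x, 1⟩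
noncomputable def cc7 : Lvl := ⟨5472, [94], 2,
  fun i => look 0xffff cc7c (Nat.mul 16 i), fun i => look 0xf cc7p (Nat.mul 4 i),
  fun i => look 255 cc7l (Nat.mul 8 i), fun i => look 255 cc7i (Nat.mul 8 i), fun x => look 0xffff cc7q x, 1⟩
noncomputable def cc8 : Lvl := ⟨4800, [95], 2,
  fun i => look 0xffff cc8c (Nat.mul 16 i), fun i => look 0xf cc8p (Nat.mul 4 i),
  fun i => look 255 cc8l (Nat.mul 8 i), fun i => look 255 cc8i (Nat.mul 8 i), fun x => look 0xffff cc8q x, 1⟩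
noncomputable def cc : List Lvl := [cc0, cc1, cc2, cc3, cc4, cc5, cc6, cc7, cc8]
noncomputable def pc0 : Lvl := ⟨32, [62,63,64,65,66,67,68,69,70], 1024,
  fun i => look 0xffff pc0c (Nat.mul 16 i), fun i => look 0xfff pc0p (Nat.mul 12 i),
  fun i => look 255 pc0l (Nat.mul 8 i), fun i => look 255 pc0i (Nat.mul 8 i), fun x => look 0xffff pc0q x, 10⟩
noncomputable def pc1 : Lvl := ⟨18208, [69], 2,
  fun i => look 0xffff pc1c (Nat.mul 16 i), fun i => look 0xf pc1p (Nat.mul 4 i),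
  fun i => look 255 pc1l (Nat.mul 8 i), fun i => look 255 pc1i (Nat.mul 8 i), fun x => look 0xffff pc1q x, 1⟩
noncomputable def pc2 : Lvl := ⟨18064, [67,68], 4,
  fun i => look 0xffff pc2c (Nat.mul 16 i), fun i => look 0xf pc2p (Nat.mul 4 i),
  fun i => look 255 pc2l (Nat.mul 8 i), fun i => look 255 pc2i (Nat.mul 8 i), fun x => look 0xffff pc2q x, 2⟩
noncomputable def pc3 : Lvl := ⟨2704, [64,65,66], 8,
  fun i => look 0xffff pc3c (Nat.mul 16 i), fun i => look 0xf pc3p (Nat.mul 4 i),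
  fun i => look 255 pc3l (Nat.mul 8 i), fun i => look 255 pc3i (Nat.mul 8 i), fun x => look 0xffff pc3q x, 3⟩
noncomputable def pc4 : Lvl := ⟨4800, [63], 2,
  fun i => look 0xffff pc4c (Nat.mul 16 i), fun i => look 0xf pc4p (Nat.mul 4 i),
  fun i => look 255 pc4l (Nat.mul 8 i), fun i => look 255 pc4i (Nat.mul 8 i), fun x => look 0xffff pc4q x, 1⟩
noncomputable def pc5 : Lvl := ⟨20704, [62], 2,
  fun i => look 0xffff pc5c (Nat.mul 16 i), fun i => look 0xf pc5p (Nat.mul 4 i),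
  fun i => look 255 pc5l (Nat.mul 8 i), fun i => look 255 pc5i (Nat.mul 8 i), fun x => look 0xffff pc5q x, 1⟩
noncomputable def pc : List Lvl := [pc0, pc1, pc2, pc3, pc4, pc5]
noncomputable def tpR : List (List ℕ) := [[62,62],
  [63,63],
  [63,62,63,62],
  [64,64],
  [65,65],
  [66,66],
  [64,62,64,62],
  [65,62,65,62],
  [66,62,66,62],
  [64,63,64,63],
  [65,63,65,63],
  [66,63,66,63],
  [64,65,64,65],
  [64,66,64,66],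
  [65,66,65,66],
  [67,67],
  [68,68],
  [67,62,67,62],
  [68,62,68,62],
  [67,63,67,63],
  [68,63,68,63],
  [68,64,68,64],
  [67,65,67,65],
  [67,68,67,68],
  [67,64,67,62,63,64],
  [68,65,68,62,63,65],
  [67,66,67,62,65,66],
  [68,66,68,63,64,66],
  [69,69],
  [69,62,69,63],
  [69,64,69,65],
  [69,67,69,68],
  [69,66,69,62,63,66],
  [70,70],
  [70,63,67,70,63,67],
  [70,63,68,70,63,68],
  [70,62,70,62,70,62,70,62],
  [70,63,70,62,70,63,70,62],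
  [70,65,70,62,70,65,70,62],
  [70,63,70,63,70,63,70,63],
  [70,64,70,63,70,64,70,63],
  [70,64,70,64,70,64,70,64],
  [70,66,70,64,70,66,70,64],
  [70,69,64,65,70,64,65,67,68,69],
  [70,66,70,63,66,70,66,70,63,66]]
noncomputable def tp0T : List ℕ := [0,0,0,0,0,0,0,0,0,0,0,0,0,0,0,0,0,0,0,0,0,0,0,0,0,0,0,0,0,0,0,0,0,0,0,0,0,0,0,0,0,0,0,0,0,0,0,0,0,0,0,0,0,0,0,0,0,0,0,0,0,0,tp0t62,tp0t63,tp0t64,tp0t65,tp0t66,tp0t67,tp0t68,tp0t69,tp0t70]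
noncomputable def tp0r : Tr Rule := (.node (.node (.node (.node (.node (.node (.node (.node (.leaf ⟨70,[70],33,1⟩) (.leaf ⟨70,[62,70,63,70,62,70,63],37,6⟩)) (.leaf ⟨68,[62,63,65,68,65],25,2⟩)) (.node (.node (.leaf ⟨69,[62,69,63],29,0⟩) (.leaf ⟨62,[70,62,70,62,70,62,70],36,7⟩)) (.leaf ⟨64,[70,63,70,64,70,63,70],40,5⟩))) (.node (.node (.node (.leaf ⟨63,[66,63,66],11,3⟩) (.leaf ⟨66,[63,66,63],11,0⟩)) (.leaf ⟨67,[65,67,65],22,0⟩)) (.node (.node (.leaf ⟨65,[66,67,66,67,62],26,4⟩) (.leaf ⟨70,[62,70,62,70,62,70,62],36,2⟩)) (.leaf ⟨62,[63,62,63],2,1⟩)))) (.node (.node (.node (.node (.leaf ⟨68,[68],16,1⟩) (.leaf ⟨64,[66,68,66,68,63],27,4⟩)) (.leaf ⟨68,[67,68,67],23,3⟩)) (.node (.node (.leaf ⟨67,[70,63,67,70,63],34,5⟩) (.leaf ⟨70,[64,70,63,70,64,70,63],40,0⟩)) (.leaf ⟨64,[70,64,70,64,70,64,70],41,7⟩))) (.node (.node (.node (.leaf ⟨62,[68,62,68],18,3⟩)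 (.leaf ⟨65,[70,62,70,65,70,62,70],38,1⟩)) (.leaf ⟨65,[64,65,64],12,3⟩)) (.node (.node (.leaf ⟨62,[67,62,67],17,1⟩) (.leaf ⟨63,[66,70,66,70,63,66,70,66,70],44,8⟩)) (.leaf ⟨69,[64,69,65],30,0⟩))))) (.node (.node (.node (.node (.node (.leaf ⟨65,[65],4,1⟩) (.leaf ⟨66,[63,66,63],11,2⟩)) (.leaf ⟨66,[64,66,64],13,1⟩)) (.node (.node (.leaf ⟨68,[62,68,62],18,2⟩) (.leaf ⟨63,[66,69,66,69,62],32,4⟩)) (.leaf ⟨63,[70,64,70,63,70,64,70],40,7⟩))) (.node (.node (.node (.leaf ⟨62,[67,62,67],17,3⟩) (.leaf ⟨65,[64,65,64],12,1⟩)) (.leaf ⟨62,[70,63,70,62,70,63,70],37,3⟩)) (.node (.node (.leaf ⟨66,[65,66,65],14,1⟩) (.leaf ⟨70,[64,70,64,70,64,70,64],41,2⟩)) (.leaf ⟨65,[67,68,69,70,69,64,65,70,64],43,6⟩)))) (.node (.node (.node (.node (.leaf ⟨62,[66,62,66],8,3⟩) (.leaf ⟨63,[67,70,63,67,70],34,1⟩)) (.leaf ⟨62,[65,66,67,66,67],26,3⟩)) (.node (.node (.leaf ⟨67,[65,67,65],22,2⟩)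 (.leaf ⟨70,[62,70,62,70,62,70,62],36,6⟩)) (.leaf ⟨70,[66,70,64,70,66,70,64],42,4⟩))) (.node (.node (.node (.leaf ⟨64,[65,64,65],12,0⟩) (.leaf ⟨70,[65,70,62,70,65,70,62],38,4⟩)) (.leaf ⟨68,[67,68,67],23,1⟩)) (.node (.node (.leaf ⟨68,[70,63,68,70,63],35,5⟩) (.leaf ⟨70,[66,70,63,66,70,66,70,63,66],44,5⟩)) (.leaf ⟨69,[62,63,66,69,66],32,2⟩)))))) (.node (.node (.node (.node (.node (.node (.leaf ⟨63,[63],1,1⟩) (.leaf ⟨69,[68,69,67],31,2⟩)) (.leaf ⟨68,[66,68,63,64,66],27,0⟩)) (.node (.node (.leaf ⟨66,[62,66,62],8,0⟩) (.leaf ⟨70,[63,68,70,63,68],35,0⟩)) (.leaf ⟨64,[65,64,65],12,2⟩))) (.node (.node (.node (.leaf ⟨64,[66,64,66],13,2⟩) (.leaf ⟨70,[63,67,70,63,67],34,0⟩)) (.leaf ⟨62,[70,62,70,62,70,62,70],36,5⟩)) (.node (.node (.leaf ⟨65,[62,65,62],7,2⟩) (.leaf ⟨70,[63,70,62,70,63,70,62],37,0⟩)) (.leaf ⟨65,[67,65,67],22,1⟩)))) (.node (.node (.node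 (.node (.leaf ⟨62,[64,62,64],6,3⟩) (.leaf ⟨65,[63,65,63],10,0⟩)) (.leaf ⟨64,[67,64,67,62,63],24,5⟩)) (.node (.node (.leaf ⟨67,[70,63,67,70,63],34,2⟩) (.leaf ⟨63,[66,63,66],11,1⟩)) (.leaf ⟨66,[70,64,70,66,70,64,70],42,5⟩))) (.node (.node (.node (.leaf ⟨64,[68,64,68],21,3⟩) (.leaf ⟨65,[66,65,66],14,0⟩)) (.leaf ⟨63,[70,63,70,63,70,63,70],39,5⟩)) (.node (.node (.leaf ⟨65,[68,62,63,65,68],25,1⟩) (.leaf ⟨70,[63,66,70,66,70,63,66,70,66],44,7⟩)) (.leaf ⟨64,[62,64,62],6,0⟩))))) (.node (.node (.node (.node (.node (.leaf ⟨69,[69],28,1⟩) (.leaf ⟨65,[68,65,68,62,63],25,5⟩)) (.leaf ⟨68,[63,68,63],20,2⟩)) (.node (.node (.leaf ⟨66,[69,62,63,66,69],32,1⟩) (.leaf ⟨70,[69,64,65,70,64,65,67,68,69],43,0⟩)) (.leaf ⟨64,[70,64,70,64,70,64,70],41,3⟩))) (.node (.node (.node (.leaf ⟨65,[67,65,67],22,3⟩) (.leaf ⟨69,[67,69,68],31,0⟩)) (.leaf ⟨65,[70,62,70,65,70,62,70],38,5⟩))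 (.node (.node (.leaf ⟨63,[67,63,67],19,1⟩) (.leaf ⟨66,[70,66,70,63,66,70,66,70,63],44,4⟩)) (.leaf ⟨69,[64,65,70,64,65,67,68,69,70],43,1⟩)))) (.node (.node (.node (.node (.leaf ⟨63,[64,63,64],9,3⟩) (.leaf ⟨64,[70,64,70,64,70,64,70],41,1⟩)) (.leaf ⟨65,[62,65,62],7,0⟩)) (.node (.node (.leaf ⟨67,[62,63,64,67,64],24,2⟩) (.leaf ⟨70,[62,70,65,70,62,70,65],38,6⟩)) (.leaf ⟨66,[69,66,69,62,63],32,5⟩))) (.node (.node (.node (.leaf ⟨64,[69,65,69],30,1⟩) (.leaf ⟨62,[63,64,67,64,67],24,3⟩)) (.leaf ⟨67,[68,67,68],23,0⟩)) (.node (.node (.leaf ⟨63,[68,70,63,68,70],35,4⟩) (.leaf ⟨70,[66,70,63,66,70,66,70,63,66],44,0⟩)) (.leaf ⟨63,[70,63,70,63,70,63,70],39,7⟩))))))) (.node (.node (.node (.node (.node (.node (.node (.leaf ⟨62,[62],0,1⟩) (.leaf ⟨68,[69,70,69,64,65,70,64,65,67],43,8⟩)) (.leaf ⟨68,[63,64,66,68,66],27,2⟩)) (.node (.node (.leaf ⟨66,[62,66,62],8,2⟩)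 (.leaf ⟨70,[63,70,62,70,63,70,62],37,4⟩)) (.leaf ⟨63,[70,64,70,63,70,64,70],40,3⟩))) (.node (.node (.node (.leaf ⟨62,[69,63,69],29,1⟩) (.leaf ⟨64,[66,64,66],13,0⟩)) (.leaf ⟨63,[62,63,62],2,0⟩)) (.node (.node (.leaf ⟨67,[66,67,62,65,66],26,0⟩) (.leaf ⟨70,[66,70,64,70,66,70,64],42,0⟩)) (.leaf ⟨64,[63,64,63],9,0⟩)))) (.node (.node (.node (.node (.leaf ⟨62,[63,62,63],2,3⟩) (.leaf ⟨62,[65,62,65],7,1⟩)) (.leaf ⟨65,[63,65,63],10,2⟩)) (.node (.node (.leaf ⟨63,[67,70,63,67,70],34,4⟩) (.leaf ⟨65,[70,64,65,67,68,69,70,69,64],43,3⟩)) (.leaf ⟨64,[63,64,63],9,2⟩))) (.node (.node (.node (.leaf ⟨67,[69,68,69],31,1⟩) (.leaf ⟨66,[68,63,64,66,68],27,1⟩)) (.leaf ⟨62,[70,65,70,62,70,65,70],38,7⟩)) (.node (.node (.leaf ⟨64,[62,64,62],6,2⟩) (.leaf ⟨63,[66,70,66,70,63,66,70,66,70],44,3⟩)) (.leaf ⟨69,[63,69,62],29,2⟩))))) (.node (.node (.node (.node (.node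 (.leaf ⟨66,[66],5,1⟩) (.leaf ⟨70,[63,70,64,70,63,70,64],40,6⟩)) (.leaf ⟨63,[62,63,62],2,2⟩)) (.node (.node (.leaf ⟨63,[68,63,68],20,1⟩) (.leaf ⟨70,[64,65,67,68,69,70,69,64,65],43,4⟩)) (.leaf ⟨64,[70,64,70,64,70,64,70],41,5⟩))) (.node (.node (.node (.leaf ⟨65,[69,64,69],30,3⟩) (.leaf ⟨70,[63,68,70,63,68],35,3⟩)) (.leaf ⟨62,[70,63,70,62,70,63,70],37,7⟩)) (.node (.node (.leaf ⟨67,[63,67,63],19,2⟩) (.leaf ⟨66,[70,63,66,70,66,70,63,66,70],44,6⟩)) (.leaf ⟨64,[65,70,64,65,67,68,69,70,69],43,2⟩)))) (.node (.node (.node (.node (.leaf ⟨63,[69,62,69],29,3⟩) (.leaf ⟨68,[64,68,64],21,0⟩)) (.leaf ⟨66,[67,66,67,62,65],26,5⟩)) (.node (.node (.leaf ⟨67,[63,67,63],19,0⟩) (.leaf ⟨62,[63,65,68,65,68],25,3⟩)) (.leaf ⟨70,[64,70,66,70,64,70,66],42,6⟩))) (.node (.node (.node (.leaf ⟨63,[67,63,67],19,3⟩) (.leaf ⟨69,[70,69,64,65,70,64,65,67,68],43,9⟩)) (.leaf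 ⟨67,[62,65,66,67,66],26,2⟩)) (.node (.node (.leaf ⟨68,[70,63,68,70,63],35,2⟩) (.leaf ⟨70,[63,66,70,66,70,63,66,70,66],44,2⟩)) (.leaf ⟨66,[70,64,70,66,70,64,70],42,1⟩)))))) (.node (.node (.node (.node (.node (.node (.leaf ⟨64,[64],3,1⟩) (.leaf ⟨66,[64,66,64],13,3⟩)) (.leaf ⟨64,[68,64,68],21,1⟩)) (.node (.node (.leaf ⟨68,[65,68,62,63,65],25,0⟩) (.leaf ⟨63,[68,70,63,68,70],35,1⟩)) (.leaf ⟨70,[63,67,70,63,67],34,3⟩))) (.node (.node (.node (.leaf ⟨65,[66,65,66],14,2⟩) (.leaf ⟨70,[62,70,62,70,62,70,62],36,4⟩)) (.leaf ⟨63,[70,62,70,63,70,62,70],37,5⟩)) (.node (.node (.leaf ⟨66,[65,66,65],14,3⟩) (.leaf ⟨70,[64,70,64,70,64,70,64],41,0⟩)) (.leaf ⟨64,[70,66,70,64,70,66,70],42,7⟩)))) (.node (.node (.node (.node (.leaf ⟨62,[65,62,65],7,3⟩) (.leaf ⟨67,[62,67,62],17,0⟩)) (.leaf ⟨62,[64,62,64],6,1⟩)) (.node (.node (.leaf ⟨67,[62,67,62],17,2⟩) (.leaf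 ⟨70,[63,70,63,70,63,70,63],39,4⟩)) (.leaf ⟨64,[70,66,70,64,70,66,70],42,3⟩))) (.node (.node (.node (.leaf ⟨67,[68,67,68],23,2⟩) (.leaf ⟨63,[65,63,65],10,1⟩)) (.leaf ⟨63,[70,63,70,63,70,63,70],39,3⟩)) (.node (.node (.leaf ⟨68,[62,68,62],18,0⟩) (.leaf ⟨66,[70,63,66,70,66,70,63,66,70],44,1⟩)) (.leaf ⟨66,[68,66,68,63,64],27,5⟩))))) (.node (.node (.node (.node (.node (.leaf ⟨67,[67],15,1⟩) (.leaf ⟨70,[64,70,64,70,64,70,64],41,4⟩)) (.leaf ⟨68,[63,68,63],20,0⟩)) (.node (.node (.leaf ⟨66,[67,62,65,66,67],26,1⟩) (.leaf ⟨70,[64,70,63,70,64,70,63],40,4⟩)) (.leaf ⟨64,[67,62,63,64,67],24,1⟩))) (.node (.node (.node (.leaf ⟨68,[69,67,69],31,3⟩) (.leaf ⟨62,[63,66,69,66,69],32,3⟩)) (.leaf ⟨62,[70,65,70,62,70,65,70],38,3⟩)) (.node (.node (.leaf ⟨63,[68,63,68],20,3⟩) (.leaf ⟨66,[70,66,70,63,66,70,66,70,63],44,9⟩)) (.leaf ⟨69,[65,69,64],30,2⟩)))) (.node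 (.node (.node (.node (.leaf ⟨63,[65,63,65],10,3⟩) (.leaf ⟨63,[64,63,64],9,1⟩)) (.leaf ⟨62,[66,62,66],8,1⟩)) (.node (.node (.leaf ⟨67,[64,67,62,63,64],24,0⟩) (.leaf ⟨70,[63,70,63,70,63,70,63],39,2⟩)) (.leaf ⟨63,[64,67,64,67,62],24,4⟩))) (.node (.node (.node (.leaf ⟨69,[66,69,62,63,66],32,0⟩) (.leaf ⟨62,[70,62,70,62,70,62,70],36,3⟩)) (.leaf ⟨62,[68,62,68],18,1⟩)) (.node (.leaf ⟨68,[64,68,64],21,2⟩) (.leaf ⟨64,[70,63,70,64,70,63,70],40,1⟩))))))))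
noncomputable def tp0 : TCL := ⟨[62,63,64,65,66,67,68,69,70], [62,63,64,65,66,67,68,69], 1024, 32, 0xffff, 16, 0xff,
  fun a x => look 0xffffffff (nth tp0T 0 a) x, fun x => look 0xffffffff tp0d x, tp0r⟩
noncomputable def tp1T : List ℕ := [0,0,0,0,0,0,0,0,0,0,0,0,0,0,0,0,0,0,0,0,0,0,0,0,0,0,0,0,0,0,0,0,0,0,0,0,0,0,0,0,0,0,0,0,0,0,0,0,0,0,0,0,0,0,0,0,0,0,0,0,0,0,tp1t62,tp1t63,tp1t64,tp1t65,tp1t66,tp1t67,tp1t68,tp1t69]
noncomputable def tp1r : Tr Rule := (.node (.node (.node (.leaf ⟨69,[69],28,1⟩) (.leaf ⟨64,[69,65,69],30,1⟩)) (.node (.leaf ⟨62,[69,63,69],29,1⟩) (.leaf ⟨67,[69,68,69],31,1⟩))) (.node (.node (.leaf ⟨63,[69,62,69],29,3⟩) (.leaf ⟨68,[69,67,69],31,3⟩)) (.node (.leaf ⟨65,[69,64,69],30,3⟩) (.leaf ⟨66,[69,66,69,62,63],32,5⟩))))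
noncomputable def tp1 : TCL := ⟨[62,63,64,65,66,67,68,69], [62,63,64,65,66,67,68], 2, 16, 0x3f, 6, 0xf,
  fun a x => look 0xffff (nth tp1T 0 a) x, fun x => look 0xffff tp1d x, tp1r⟩
noncomputable def tp2T : List ℕ := [0,0,0,0,0,0,0,0,0,0,0,0,0,0,0,0,0,0,0,0,0,0,0,0,0,0,0,0,0,0,0,0,0,0,0,0,0,0,0,0,0,0,0,0,0,0,0,0,0,0,0,0,0,0,0,0,0,0,0,0,0,0,tp2t62,tp2t63,tp2t64,tp2t65,tp2t66,tp2t67,tp2t68]
noncomputable def tp2r : Tr Rule := (.node (.node (.node (.node (.leaf ⟨67,[67],15,1⟩) (.leaf ⟨67,[68,67,68],23,2⟩)) (.node (.leaf ⟨63,[67,63,67],19,3⟩) (.leaf ⟨66,[68,66,68,63,64],27,5⟩))) (.node (.node (.leaf ⟨62,[67,62,67],17,3⟩) (.leaf ⟨65,[68,65,68,62,63],25,5⟩)) (.leaf ⟨64,[68,64,68],21,3⟩))) (.node (.node (.node (.leaf ⟨68,[68],16,1⟩) (.leaf ⟨64,[67,64,67,62,63],24,5⟩)) (.leaf ⟨63,[68,63,68],20,3⟩)) (.node (.node (.leaf ⟨62,[68,62,68],18,3⟩)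 (.leaf ⟨66,[67,66,67,62,65],26,5⟩)) (.leaf ⟨65,[67,65,67],22,3⟩))))
noncomputable def tp2 : TCL := ⟨[62,63,64,65,66,67,68], [62,63,64,65,66], 4, 16, 0x7f, 7, 0xf,
  fun a x => look 0xffff (nth tp2T 0 a) x, fun x => look 0xffff tp2d x, tp2r⟩
noncomputable def tp3T : List ℕ := [0,0,0,0,0,0,0,0,0,0,0,0,0,0,0,0,0,0,0,0,0,0,0,0,0,0,0,0,0,0,0,0,0,0,0,0,0,0,0,0,0,0,0,0,0,0,0,0,0,0,0,0,0,0,0,0,0,0,0,0,0,0,tp3t62,tp3t63,tp3t64,tp3t65,tp3t66]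
noncomputable def tp3r : Tr Rule := (.node (.node (.node (.node (.leaf ⟨64,[64],3,1⟩) (.leaf ⟨63,[66,63,66],11,3⟩)) (.leaf ⟨62,[65,62,65],7,3⟩)) (.node (.node (.leaf ⟨66,[66],5,1⟩) (.leaf ⟨64,[66,64,66],13,2⟩)) (.leaf ⟨63,[64,63,64],9,3⟩))) (.node (.node (.node (.leaf ⟨65,[65],4,1⟩) (.leaf ⟨64,[65,64,65],12,2⟩)) (.leaf ⟨62,[66,62,66],8,3⟩)) (.node (.node (.leaf ⟨62,[64,62,64],6,3⟩) (.leaf ⟨65,[66,65,66],14,2⟩)) (.leaf ⟨63,[65,63,65],10,3⟩))))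
noncomputable def tp3 : TCL := ⟨[62,63,64,65,66], [62,63], 8, 16, 0xff, 8, 0xf,
  fun a x => look 0xffff (nth tp3T 0 a) x, fun x => look 0xffff tp3d x, tp3r⟩
noncomputable def tp4T : List ℕ := [0,0,0,0,0,0,0,0,0,0,0,0,0,0,0,0,0,0,0,0,0,0,0,0,0,0,0,0,0,0,0,0,0,0,0,0,0,0,0,0,0,0,0,0,0,0,0,0,0,0,0,0,0,0,0,0,0,0,0,0,0,0,tp4t62,tp4t63]
noncomputable def tp4r : Tr Rule := (.node (.leaf ⟨63,[63],1,1⟩) (.leaf ⟨62,[63,62,63],2,3⟩))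
noncomputable def tp4 : TCL := ⟨[62,63], [62], 2, 16, 0x3f, 6, 0x7,
  fun a x => look 0xffff (nth tp4T 0 a) x, fun x => look 0xffff tp4d x, tp4r⟩
noncomputable def tp5T : List ℕ := [0,0,0,0,0,0,0,0,0,0,0,0,0,0,0,0,0,0,0,0,0,0,0,0,0,0,0,0,0,0,0,0,0,0,0,0,0,0,0,0,0,0,0,0,0,0,0,0,0,0,0,0,0,0,0,0,0,0,0,0,0,0,tp5t62]
noncomputable def tp5r : Tr Rule := (.leaf ⟨62,[62],0,1⟩)
noncomputable def tp5 : TCL := ⟨[62], [], 2, 16, 0x3f, 6, 0x3,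
  fun a x => look 0xffff (nth tp5T 0 a) x, fun x => look 0xffff tp5d x, tp5r⟩
noncomputable def tp : List TCL := [tp0, tp1, tp2, tp3, tp4, tp5]
noncomputable def pS : List ℕ := [62,63,64,65,66,67,68,69,70]
noncomputable def pQ : List (List ℕ) := [[],
  [70,69,70,69,70,69,70],
  [70,62,70,64,70,62,70],
  [70,69,70,65,70,69,70],
  [70,63,70,66,70,63,70],
  [70,69,65,70,65,70,64,70],
  [69,70,63,62,70],
  [64,70,63,62,70],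
  [66,65,70,63,62,70],
  [70,62,70,64,70,63,62,70],
  [66,70,65,62,70],
  [70,65,70,66,70,66,65,70]]
noncomputable def pR : List (List ℕ) := [[62],
  [63],
  [64],
  [65],
  [66],
  [67],
  [68],
  [69],
  [70]]
noncomputable def pF : List (List ℕ) := [[],
  [13,17,10,16,16,19,20,19,32,34,34,36,39,42,38,46,47,48]]
noncomputable def pU : List (List ℕ) := [[10,17,15,17,14,22,18,22,18,25,26,26,32,28,28,34,34,36,42,40,38,46,47]]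
noncomputable def aK : List ℕ := [8,96]
noncomputable def nK : List (List ℕ × ℕ) := [([],0),
  ([],8),
  ([8,10,14,16,13,21,22,21,23,18,24,26,25,31,31,29,37,42],8),
  ([15,9,17,17,13,9,19,23,18,18,26,24,31,35,37,38,38,44,46,47,48],8),
  ([10,9,13,22,20,22,22,25,25,25,32,34,34,42,40,40,38,44,47,48],8),
  ([],96),
  ([10,14,14,10,8,19,23,19,22,27,25,32,34,34,37,39,42,43],8),
  ([10,14,14,10,8,19,23,19,22,27,25,32,34,34,37,39,42,43],96),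
  ([16,14,9,14,23,20,19,27,24,26,25,28,35,36,42,40,38,44,46,48],8),
  ([10,17,10,17,10,8,23,18,22,25,26,25,31,29,30,34,36,40,40,38,43,46,48],8),
  ([8,10,14,16,13,21,22,21,23,18,24,26,25,31,31,29,37,42],96),
  ([15,13,10,8,8,20,19,19,20,20,26,24,26,30,33,28,37,42,41,38,43,44,46],96),
  ([10,13,9,23,19,20,22,25,26,26,31,32,34,36,40,40,38,38,44,46,47],8),
  ([16,10,14,14,13,20,18,18,20,18,26,24,26,28,31,28,34,34,41,43,44],8),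
  ([10,13,9,23,19,20,22,25,26,26,31,32,34,36,40,40,38,38,44,46,47],96),
  ([15,9,17,17,13,9,19,23,18,18,26,24,31,35,37,38,38,44,46,47,48],96),
  ([15,13,10,8,8,20,19,19,20,20,26,24,26,30,33,28,37,42,41,38,43,44,46],8),
  ([16,14,9,14,23,20,19,27,24,26,25,28,35,36,42,40,38,44,46,48],96),
  ([17,9,9,14,9,18,23,23,18,26,26,26,29,32,35,38,42,41,44,46],8),
  ([16,10,14,14,13,20,18,18,20,18,26,24,26,28,31,28,34,34,41,43,44],96),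
  ([10,9,13,22,20,22,22,25,25,25,32,34,34,42,40,40,38,44,47,48],96),
  ([17,9,9,14,9,18,23,23,18,26,26,26,29,32,35,38,42,41,44,46],96),
  ([10,17,10,17,10,8,23,18,22,25,26,25,31,29,30,34,36,40,40,38,43,46,48],96)]
noncomputable def rT : List (List ℕ × ℕ) := [([0,1,0,1,0,1,0,1],13616),
  ([0,1,0,1,0,1,0,1],30352),
  ([0,1,0,1,0,1,0,1],7200),
  ([0,0,1,0,0,1,0,0,1,0,0,1,0,0,1,0,0,1,0,0,1,0,0,1],23200),
  ([0,0,0,1,0,0,0,1,0,0,0,1,0,0,0,1,0,0,0,1,0,0,0,1,0,0,0,1,0,0,0,1,0,0,0,1,0,0,0,1,0,0,0,1,0,0,0,1,0,0,0,1,0,0,0,1],16880),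
  ([0,0,0,1,0,0,1,0,1,0,0,0,1,0,0,1,0,1,0,0,0,1,0,0,1,0,1,0,0,0,1,0,0,1,0,1,0,0,0,1,0,0,1,0,1,0,0,0,1,0,0,1,0,1],480)]
noncomputable def uu : List (List ℕ) := [[],
  [8],
  [8,8],
  [8,8,10,8,19,21,21,18,25,25,27,27,32,28,34,36,41,39,44,46,47],
  [8,10,8,19,21,21,18,25,25,27,27,32,28,34,36,41,39,44,46,47],
  [8,13,16,32,32,28,35,36,41,38,43,44,46],
  [8,16,10,8,8,23,18,20,23,18,26,26,26,31,31,29,37,42,40,38,47],
  [9],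
  [9,9],
  [9,9,10,8,19,21,21,18,25,25,27,27,32,28,34,36,41,39,44,46,47],
  [9,10,8,19,21,21,18,25,25,27,27,32,28,34,36,41,39,44,46,47],
  [9,13,9,16,8,18,20,20,19,21,24,26,28,31,35,37,40,40,38,46,47,48],
  [10,8,15,17,8,21,18,21,19,19,24,27,24,30,32,32,28,34,34,36,39,47,48],
  [10,8,19,21,21,18,25,25,27,27,32,28,34,36,41,39,44,46,47],
  [10,17,9,16,8,18,20,20,19,21,24,26,28,31,35,37,40,40,38,46,47,48],
  [13,9,16,8,18,20,20,19,21,24,26,28,31,35,37,40,40,38,46,47,48],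
  [13,16,8,19,21,21,18,25,25,27,27,32,28,34,36,41,39,44,46,47],
  [13,16,32,32,28,35,36,41,38,43,44,46],
  [14,10,16,15,18,21,18,23,26,26,33,31,28,34,34,41,38,43,46,47,48],
  [16,10,8,8,23,18,20,23,18,26,26,26,31,31,29,37,42,40,38,47],
  [17,13,9,16,22,22,20,20,18,25,26,26,33,31,35,37,42,38,43],
  [17,14,10,13,22,20,18,21,25,27,24,33,28,28,34,34,37,40,40,38,38,43,47],
  [17,17,13,10,17,19,21,19,22,19,25,27,24,33,31,35,36,40,39,43,44,48]]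
noncomputable def wT : Tr ℕ := (.node (.node (.node (.node (.node (.node (.leaf w0) (.leaf w32)) (.node (.leaf w16) (.leaf w48))) (.node (.node (.leaf w8) (.leaf w40)) (.leaf w24))) (.node (.node (.node (.leaf w4) (.leaf w36)) (.node (.leaf w20) (.leaf w52))) (.node (.node (.leaf w12) (.leaf w44)) (.leaf w28)))) (.node (.node (.node (.node (.leaf w2) (.leaf w34)) (.node (.leaf w18) (.leaf w50))) (.node (.node (.leaf w10) (.leaf w42)) (.leaf w26))) (.node (.node (.node (.leaf w6) (.leaf w38)) (.node (.leaf w22) (.leaf w54))) (.node (.node (.leaf w14) (.leaf w46)) (.leaf w30))))) (.node (.node (.node (.node (.node (.leaf w1) (.leaf w33)) (.node (.leaf w17) (.leaf w49))) (.node (.node (.leaf w9) (.leaf w41)) (.leaf w25))) (.node (.node (.node (.leaf w5) (.leaf w37)) (.node (.leaf w21) (.leaf w53))) (.node (.node (.leaf w13) (.leaf w45))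 (.leaf w29)))) (.node (.node (.node (.node (.leaf w3) (.leaf w35)) (.node (.leaf w19) (.leaf w51))) (.node (.node (.leaf w11) (.leaf w43)) (.leaf w27))) (.node (.node (.node (.leaf w7) (.leaf w39)) (.node (.leaf w23) (.leaf w55))) (.node (.node (.leaf w15) (.leaf w47)) (.leaf w31))))))
noncomputable def en : Enum := ⟨inv, 8, 255, 4, fun i => force (Nat.shiftRight i 10) fun c => look 0xffffffff (wT.get c) (Nat.mul 32 (Nat.land i 1023)), 10, [30896,25552,30480,27280,14800], 65536⟩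
noncomputable def tst : (ℕ → ℕ) → Bool := outTest (appT tabs t98 0xffff) bs aK rT [(8, 10)] uu

end Cfsg.Agent.CG.Co2
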