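import Cfsg.Agent.Lib.Grp.Co2.OC0
import Cfsg.Agent.Lib.Grp.Co2.Main

set_option autoImplicit false
set_option maxRecDepth 100000
set_option Elab.async false

namespace Cfsg.Agent.CG.Co2

theorem chainC : ChainOK act cc [] :=
  chainOK_of_chk act cc [] (by simp) (okc_of_okcb Oc239) Oc240
  (allL_cons Oc230 (allL_cons Oc231 (allL_cons Oc232 (allL_cons Oc233 (allL_cons Oc234 (allL_cons Oc235 (allL_cons Oc236 (allL_cons Oc237 (allL_cons Oc238 (allL_nil _))))))))))

theorem chainP : ChainOK act pc [] :=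
  chainOK_of_chk act pc [] (by simp) (okc_of_okcb Oc260) Oc261
  (allL_cons Oc254 (allL_cons Oc255 (allL_cons Oc256 (allL_cons Oc257 (allL_cons Oc258 (allL_cons Oc259 (allL_nil _)))))))

theorem boundsP : Bounds tpR pS (2 ^ 18) :=
  (show prodTC tp = 2 ^ 18 by decide +kernel) ▸ bounds_of_chain Oc253
  (allL_cons Oc241 (allL_cons Oc243 (allL_cons Oc245 (allL_cons Oc247 (allL_cons Oc249 (allL_cons Oc251 (allL_nil _)))))))
  (allL_cons Oc242 (allL_cons Oc244 (allL_cons Oc246 (allL_cons Oc248 (allL_cons Oc250 (allL_cons Oc252 (allL_nil _)))))))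

theorem cardP : Nat.card (cl act.gen pS) = 2 ^ 18 :=
  card_cl_eq chainP (by decide +kernel) boundsP (base.rels Oc262) (by decide +kernel)

theorem centP : ∀ g ∈ Subgroup.centralizer (cl act.gen pS : Set PG), ∃ φ ∈ pF, g = ev act.gen φ :=
  centralizer_subset (l := mc0) (L := [mc1, mc2, mc3, mc4, mc5, mc6, mc7, mc8, mc9, mc10, mc11]) chain card_le base (Q := pQ) (Rf := pR) (by decide +kernel) (by decide +kernel) (by decide +kernel)
    Oc263

theorem autT (φ : MulAut PG) : ∃ g : PG, φ (act.gen 10) = g * act.gen 10 * g⁻¹ :=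
  aut_class base (r := 2) (by norm_num) cardP (not_dvd_of_eq card (by decide +kernel)) centP
    Oc264 φ

theorem autA (φ : MulAut PG) : ∃ g : PG, ∃ a' ∈ aK, g * φ (act.gen 8) * g⁻¹ = act.gen a' :=
  aut_pow base (p := 23) (by norm_num) (not_dvd_of_eq card (by decide +kernel))
    Oc265 φ

theorem enumOK : en.OK app tst 0 56925 0 677963623941975907009105 :=
  (Enum.OK.append (Enum.OK.append (Enum.OK.append (Enum.OK.append (Enum.OK.append (Enum.OK.append (Enum.OK.append (Enum.OK.append (Enum.OK.append (Enum.OK.append (Enum.OK.append (Enum.OK.append (Enum.OK.append (Enum.OK.append (Enum.ok_of_chk Oc266)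
  (Enum.ok_of_chk Oc267))
  (Enum.ok_of_chk Oc268))
  (Enum.ok_of_chk Oc269))
  (Enum.ok_of_chk Oc270))
  (Enum.ok_of_chk Oc271))
  (Enum.ok_of_chk Oc272))
  (Enum.ok_of_chk Oc273))
  (Enum.ok_of_chk Oc274))
  (Enum.ok_of_chk Oc275))
  (Enum.ok_of_chk Oc276))
  (Enum.ok_of_chk Oc277))
  (Enum.ok_of_chk Oc278))
  (Enum.ok_of_chk Oc279))
  (Enum.ok_of_chk Oc280))

theorem cent_le : prodN cc ≤ Nat.card (Subgroup.centralizer {act.gen 10}) :=
  le_card_centralizer base chainC Oc281

theorem classAll (g : PG) : ∃ f, act.Rep (g * act.gen 10 * g⁻¹) f ∧ tst f = true :=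
  Enum.OK.all (A := act) (E := en) enumOK hinv (okc_of_okcb (n := 2300) (w := 16) (by decide +kernel)) cent_le
    (card ▸ (ble_iff _ _).1 (by decide +kernel)) g

theorem autPair (φ : MulAut PG) : ∃ s ∈ [(8, 10)], ∃ g : PG, φ (act.gen 8) = g * act.gen s.1 * g⁻¹ ∧ φ (act.gen 10) = g * act.gen s.2 * g⁻¹ :=
  aut_pair base Oc282 (okc_of_okcb (n := 2300) (w := 16) (by decide +kernel)) autA autT classAll φ

theorem card_out : Nat.card (Out PG) = 1 := card_out_eq_one clAT autPair

end Cfsg.Agent.CG.Co2
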